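import Groth.Agent.RootData.Facts

/-!
# Words in a subset of a system of simple roots
-/

set_option linter.unusedSectionVars false

namespace Groth.Agent.RootData

open Set Function Module RootD

variable {ι R M N : Type*} [CommRing R] [IsDomain R] [CharZero R]
  [AddCommGroup M] [Module R M] [AddCommGroup N] [Module R N]
  {P : RootPairing ι R M N} [Fintype ι] [P.IsCrystallographic] {Δ : Set ι} (hΔ : Simple P Δ)

include hΔ in
/-- The exchange property inside a subset of the simple roots. -/
theorem Simple.exchange_sub {Δ' : Set ι} (hsub : Δ' ⊆ Δ) {a : ι} (ha : a ∈ Δ) :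
    ∀ l : List ι, (∀ c ∈ l, c ∈ Δ') → word P l • a ∉ posOf P Δ →
      ∃ l', (∀ c ∈ l', c ∈ Δ') ∧ l'.length + 1 = l.length ∧
        word P l * RootPairing.Equiv.reflection P a = word P l' := by
  intro l
  induction l with
  | nil => intro _ h; exact absurd (by simpa [word] using hΔ.subset_posOf ha) h
  | cons c t ih =>
    intro hl h
    have hc : c ∈ Δ := hsub (hl c List.mem_cons_self)
    have ht : ∀ x ∈ t, x ∈ Δ' := fun x hx => hl x (List.mem_cons_of_mem _ hx)
    by_cases htp : word P t • a ∈ posOf P Δ
    · refine ⟨t, ht, rfl, ?_⟩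
      have heq : word P t • a = c := by
        refine hΔ.eq_of_pos_multiple hc htp (smul_isIndiv _ (hΔ.isIndiv ha)) fun b hb => ?_
        by_contra hh
        exact h (by rw [word_cons, mul_smul]; exact hΔ.refl_pos hc htp ⟨b, hb, hh⟩)
      have := conj_refl (word P t) a
      rw [heq] at this
      rw [word_cons, ← this, inv_mul_cancel_right, mul_assoc, refl_mul_self, mul_one]
    · obtain ⟨l', h1, h2, h3⟩ := ih ht htp
      refine ⟨c :: l', ?_, by simp [h2], ?_⟩
      · intro x hx
        rcases List.mem_cons.mp hx with rfl | hx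
        · exact hl x List.mem_cons_self
        · exact h1 x hx
      · rw [word_cons, mul_assoc, h3, word_cons]

theorem Simple.co_smul_refl (g : P.Aut) (a k : ι) :
    hΔ.co (g • P.reflectionPerm a k) = hΔ.co (g • k) - nn P k a • hΔ.co (g • a) := by
  refine hΔ.co_unique (fun b hb => by simp [hΔ.co_supp hb]) ?_
  rw [comb_sub, comb_smul, hΔ.co_spec, hΔ.co_spec, smul_root, smul_root, smul_root, refl_root,
    smul_sub, smul_comm (nn P k a) g]

theorem Simple.ht_smul_refl (g : P.Aut) (a k : ι) :
    hΔ.ht (g • P.reflectionPerm a k) = hΔ.ht (g • k) - nn P k a * hΔ.ht (g • a) := by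
  simp [Simple.ht, hΔ.co_smul_refl, Finset.sum_sub_distrib, Finset.mul_sum]

/-- Along a reduced word in `Δ'` the height of an element of the chamber of `Δ'` decreases. -/
theorem Simple.ht_reduced_word {Δ' : Set ι} (hsub : Δ' ⊆ Δ) {k : ι}
    (hdom : ∀ a ∈ Δ', 0 ≤ nn P k a) :
    ∀ l : List ι, (∀ a ∈ l, a ∈ Δ') →
      (∀ l' : List ι, (∀ a ∈ l', a ∈ Δ') → word P l' = word P l → l.length ≤ l'.length) →
      hΔ.ht (word P l • k) ≤ hΔ.ht k ∧
        ∀ a ∈ l, 0 < nn P k a → hΔ.ht (word P l • k) < hΔ.ht k := by
  intro l
  induction l using List.reverseRecOn with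
  | nil => intro _ _; simp [word]
  | append_singleton t a ih =>
    intro hl hmin
    have ha : a ∈ Δ' := hl a (by simp)
    have ht' : ∀ x ∈ t, x ∈ Δ' := fun x hx => hl x (by simp [hx])
    obtain ⟨h1, h2⟩ := ih ht' fun l' hl' he => by
      have := hmin (l' ++ [a]) (by
        intro x hx
        rcases List.mem_append.mp hx with h | h
        · exact hl' x h
        · rw [List.mem_singleton.mp h]; exact ha) (by rw [word_append, word_append, he])
      simpa using this
    have hpos : word P t • a ∈ posOf P Δ := by
      by_contra hneg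
      obtain ⟨l', hl', hlen, he⟩ := hΔ.exchange_sub hsub (hsub ha) t ht' hneg
      have := hmin l' hl' (by rw [word_append, show word P [a] = RootPairing.Equiv.reflection P a by
        simp [word], he])
      simp at this; omega
    have hht := hΔ.ht_pos hpos
    have e : hΔ.ht (word P (t ++ [a]) • k) = hΔ.ht (word P t • k) - nn P k a * hΔ.ht (word P t • a) := by
      rw [word_append, mul_smul, show word P [a] = RootPairing.Equiv.reflection P a by simp [word],
        refl_smul_idx, hΔ.ht_smul_refl]
    rw [e]
    have hk0 := mul_nonneg (hdom a ha) hht.le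
    refine ⟨by omega, fun b hb hbk => ?_⟩
    rcases List.mem_append.mp hb with h | h
    · have := h2 b h hbk; omega
    · obtain rfl : b = a := List.mem_singleton.mp h
      have := mul_pos hbk hht; omega

end Groth.Agent.RootData
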