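import Groth.Agent.RootData.Orth

/-!
# Root lengths, irreducibility and sums over positive roots
-/

set_option linter.unusedSectionVars false

namespace Groth.Agent.RootData

open Set Function Module RootD RootPairing

variable {ι R M N : Type*} [CommRing R] [IsDomain R] [CharZero R]
  [AddCommGroup M] [Module R M] [AddCommGroup N] [Module R N]
  {P : RootPairing ι R M N} [P.IsCrystallographic] [Fintype ι]

theorem zsmul_root_inj {i : ι} {m n : ℤ} (h : m • P.root i = n • P.root i) : m = n := by
  by_contra hne
  refine P.ne_zero i (zsmul_cancelM P (sub_ne_zero.mpr hne) ?_)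
  rw [sub_smul, h, sub_self, smul_zero]

theorem bz_swap (i j : ι) : nn P i j * bz P j j = nn P j i * bz P i i := by
  have h1 := two_bz P i j
  have h2 := two_bz P j i
  rw [bz_comm] at h2; linarith

theorem bz_eq_rootForm {M N : Type*} [AddCommGroup M] [AddCommGroup N]
    {P : RootPairing ι ℤ M N} (i : ι) : P.RootForm (P.root i) (P.root i) = bz P i i := by
  rw [← bz_cast, Int.cast_id]

theorem bz_eq_corootForm {M N : Type*} [AddCommGroup M] [AddCommGroup N]
    {P : RootPairing ι ℤ M N} (i : ι) :
    P.CorootForm (P.coroot i) (P.coroot i) = bz P.flip i i :=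
  bz_eq_rootForm (P := P.flip) i

theorem exists_smul_of_bz_eq {i j : ι} (hno : Adj P i j) (hl : bz P i i = bz P j j) :
    ∃ g ∈ P.weylGroup, g • i = j := by
  have key : ∀ a b : ι, nn P a b = 1 → nn P b a = 1 →
      (RootPairing.Equiv.reflection P b * RootPairing.Equiv.reflection P a *
        RootPairing.Equiv.reflection P b) • a = b := by
    intro a b h1 h2
    have e1 : P.root (P.reflectionPerm b a) = P.root a - P.root b := by
      rw [refl_root, h1, one_smul]
    apply P.root.injective
    simp only [mul_smul, smul_root, RootPairing.Equiv.reflection_smul]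
    rw [← P.root_reflectionPerm, e1, map_sub, P.reflection_apply_self,
      ← P.root_reflectionPerm a b, refl_root, h2, one_smul, ← neg_sub (P.root a) (P.root b),
      sub_neg_eq_add, neg_add_eq_sub, map_sub, map_sub, P.reflection_apply_self, ← P.root_reflectionPerm,
      e1]
    abel
  have : Module.IsReflexive R M := .of_isPerfPair P.toLinearMap
  have hn : nn P i j ≠ 0 := fun h => hno ((orth_iff P).mpr h)
  have hsym : nn P i j = nn P j i :=
    mul_right_cancel₀ (bz_self_pos P j).ne' ((bz_swap i j).trans (by rw [hl]))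
  have hp := P.pairingIn_pairingIn_mem_set_of_isCrystallographic i j
  simp only [mem_insert_iff, mem_singleton_iff, Prod.mk.injEq] at hp
  have hW : ∀ a, RootPairing.Equiv.reflection P a ∈ P.weylGroup := P.reflection_mem_weylGroup
  obtain h | h | h | h : nn P i j = 1 ∨ nn P i j = -1 ∨ nn P i j = 2 ∨ nn P i j = -2 := by
    unfold nn at hn hsym ⊢
    omega
  · exact ⟨_, mul_mem (mul_mem (hW j) (hW i)) (hW j), key i j h (hsym ▸ h)⟩
  · set j' := P.reflectionPerm j j with hj'
    have := key i j' (by rw [nn_neg_right, h]; rfl) (by rw [nn_neg_left, ← hsym, h]; rfl)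
    refine ⟨RootPairing.Equiv.reflection P j * _,
      mul_mem (hW j) (mul_mem (mul_mem (hW j') (hW i)) (hW j')), ?_⟩
    rw [mul_smul, this, refl_smul_idx, hj', P.reflectionPerm_self]
  · have he : i = j := (P.pairingIn_two_two_iff ℤ i j).mp ⟨h, hsym.symm.trans h⟩
    exact ⟨1, one_mem _, by rw [one_smul, he]⟩
  · have he := (P.pairingIn_neg_two_neg_two_iff ℤ i j).mp ⟨h, hsym.symm.trans h⟩
    refine ⟨RootPairing.Equiv.reflection P i, hW i, P.root.injective ?_⟩
    rw [refl_smul_idx, root_neg, he, neg_neg]

/-- Irreducibility as non-existence of a partition into two closed symmetric sets. -/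
def Irr (P : RootPairing ι R M N) : Prop :=
  ∀ R' : Set ι, IsClosedSub P R' → IsSymmSub P R' → IsClosedSub P R'ᶜ → IsSymmSub P R'ᶜ →
    R' = ∅ ∨ R' = Set.univ

theorem Irr.partition (h : Irr P) {R' : Set ι} (horth : ∀ i ∈ R', ∀ j ∉ R', P.IsOrthogonal i j) :
    R' = ∅ ∨ R' = Set.univ := by
  refine h R' ?_ (fun i hi => ?_) ?_ (fun i hi hni => ?_)
  · intro i j k hi hj hk
    by_contra hkn
    rcases adj_of_add hk with a | a
    · exact a (horth i hi k hkn)
    · exact a (horth j hj k hkn)
  · by_contra hn
    exact adj_neg i (horth i hi _ hn)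
  · intro i j k hi hj hk hkR
    rcases adj_of_add hk with a | a
    · exact a (horth k hkR i hi).symm
    · exact a (horth k hkR j hj).symm
  · exact adj_neg i (horth _ hni i hi).symm

theorem Irr.reach (h : Irr P) (i j : ι) : Relation.ReflTransGen (Adj P) i j := by
  rcases h.partition (R' := {x | Relation.ReflTransGen (Adj P) i x})
    (fun a ha b hb => by_contra fun hh => hb (ha.tail hh)) with e | e
  · exact absurd (e.subset (Relation.ReflTransGen.refl : i ∈ {x | _})) (notMem_empty i)
  · exact e.symm.subset (mem_univ j)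

theorem Irr.exists_conj_adj (h : Irr P) (i j : ι) : ∃ g ∈ P.weylGroup, Adj P (g • i) j := by
  set R' : Set ι := {x | ∃ g ∈ P.weylGroup, Adj P (g • i) x}
  have horth : ∀ l ∈ R', ∀ k ∉ R', P.IsOrthogonal l k := by
    intro l hl k hk
    obtain ⟨g, hg, hgl⟩ := hl
    have hall : ∀ g ∈ P.weylGroup, nn P (g • i) k = 0 := fun g hg =>
      (orth_iff P).mp (by_contra fun hh => hk ⟨g, hg, hh⟩)
    have h1 := hall g hg
    have h2 := hall _ (mul_mem (P.reflection_mem_weylGroup l) hg)
    rw [mul_smul, refl_smul_idx] at h2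
    have h3 : nn P (P.reflectionPerm l (g • i)) k = nn P (g • i) k - nn P (g • i) l * nn P l k := by
      apply Int.cast_injective (α := R); push_cast
      rw [nn_cast, nn_cast, nn_cast, nn_cast]
      generalize g • i = o
      rw [← P.root_coroot_eq_pairing (P.reflectionPerm l o), P.root_reflectionPerm,
        P.reflection_apply_root, map_sub, map_smul]
      simp
    rw [orth_iff]
    have hne : nn P (g • i) l ≠ 0 := fun e => hgl ((orth_iff P).mpr e)
    have : nn P (g • i) l * nn P l k = 0 := by omega
    exact (mul_eq_zero.mp this).resolve_left hne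

  rcases h.partition horth with e | e
  · have : i ∈ R' := ⟨1, one_mem _, by
      rw [one_smul]; show ¬ _; rw [orth_iff, nn_self]; norm_num⟩
    rw [e] at this; exact absurd this (notMem_empty i)
  · exact e.symm.subset (mem_univ j)

variable {Δ : Set ι} (hΔ : Simple P Δ)

include hΔ in
theorem Simple.refl_pos_ne (hind : ∀ i, IsIndiv P i) {a k : ι} (ha : a ∈ Δ) (hk : k ∈ posOf P Δ)
    (hne : k ≠ a) : P.reflectionPerm a k ∈ posOf P Δ ∧ P.reflectionPerm a k ≠ a := by
  refine ⟨hΔ.refl_pos ha hk ?_, fun e => ?_⟩
  · by_contra h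
    push Not at h
    exact hne (hΔ.eq_of_pos_multiple ha hk (hind k) h)
  · have : k = P.reflectionPerm a a := by rw [← P.reflectionPerm_self a k, e]
    exact hΔ.refl_self_notMem ha (this ▸ hk)

include hΔ in
open Classical in
theorem Simple.sum_pos_refl {G : Type*} [AddCommMonoid G] (hind : ∀ i, IsIndiv P i) {a : ι}
    (ha : a ∈ Δ) (F : ι → G) :
    ∑ k ∈ Finset.univ.filter (fun k => k ∈ posOf P Δ ∧ k ≠ a), F (P.reflectionPerm a k) =
      ∑ k ∈ Finset.univ.filter (fun k => k ∈ posOf P Δ ∧ k ≠ a), F k := by
  refine Finset.sum_nbij' (P.reflectionPerm a) (P.reflectionPerm a) ?_ ?_ ?_ ?_ ?_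
  · intro k hk
    simp only [Finset.mem_filter, Finset.mem_univ, true_and] at hk ⊢
    exact hΔ.refl_pos_ne hind ha hk.1 hk.2
  · intro k hk
    simp only [Finset.mem_filter, Finset.mem_univ, true_and] at hk ⊢
    exact hΔ.refl_pos_ne hind ha hk.1 hk.2
  · intro k _; exact P.reflectionPerm_self a k
  · intro k _; exact P.reflectionPerm_self a k
  · intro k _; rfl

end Groth.Agent.RootData
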