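import Groth.Agent.RootData.Facts
import Groth.Agent.RootData.Lengths

/-!
# Inversion sets of Weyl group elements
-/

set_option linter.unusedSectionVars false

namespace Groth.Agent.RootData

open Set Function Module RootD

variable {ι R M N : Type*} [CommRing R] [IsDomain R] [CharZero R]
  [AddCommGroup M] [Module R M] [AddCommGroup N] [Module R N]
  {P : RootPairing ι R M N} [Fintype ι] [P.IsCrystallographic] {Δ : Set ι} (hΔ : Simple P Δ)

theorem word_smul (l : List ι) (i : ι) : word P l • i = (l.map P.reflectionPerm).prod i := by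
  induction l with
  | nil => simp [word]
  | cons a t ih => rw [word_cons, mul_smul, ih, refl_smul_idx]; rfl

theorem word_mem_weylGroup (l : List ι) : word P l ∈ P.weylGroup :=
  gen_le Set.univ (word_mem_gen fun _ _ => Set.mem_univ _)

variable (P Δ) in
/-- The positive roots made negative by `g`. -/
def inv' (g : P.Aut) : Set ι := {k | k ∈ posOf P Δ ∧ g • k ∉ posOf P Δ}

include hΔ in
theorem Simple.ncard_inv_reduced [P.IsReduced] :
    ∀ l : List ι, (∀ a ∈ l, a ∈ Δ) →
      (∀ l' : List ι, (∀ a ∈ l', a ∈ Δ) → word P l' = word P l → l.length ≤ l'.length) →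
      (inv' P Δ (word P l)).ncard = l.length := by
  intro l
  induction l using List.reverseRecOn with
  | nil => intro _ _; simp [inv', word]
  | append_singleton t a ih =>
    intro hl hmin
    have ha : a ∈ Δ := hl a (by simp)
    have hht := ih (fun x hx => hl x (by simp [hx])) fun l' hl' he => by
      have := hmin (l' ++ [a]) (by
        intro x hx
        rcases List.mem_append.mp hx with h | h
        · exact hl' x h
        · rw [List.mem_singleton.mp h]; exact ha) (by rw [word_append, word_append, he])
      simpa using this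
    have hlast := hΔ.minimal_last hl (by simp) hmin
    rw [List.getLast_append_singleton] at hlast
    have e : word P (t ++ [a]) = word P t * RootPairing.Equiv.reflection P a := by simp [word]
    have hset : inv' P Δ (word P (t ++ [a])) =
        insert a (P.reflectionPerm a '' inv' P Δ (word P t)) := by
      ext k
      simp only [inv', Set.mem_ofPred_eq, Set.mem_insert_iff, Set.mem_image]
      constructor
      · rintro ⟨hk, hk'⟩
        by_cases hka : k = a
        · exact .inl hka
        refine .inr ⟨P.reflectionPerm a k, ⟨(hΔ.refl_pos_ne isIndiv_of_reduced ha hk hka).1, ?_⟩,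
          P.reflectionPerm_self a k⟩
        rwa [e, mul_smul, refl_smul_idx] at hk'
      · rintro (rfl | ⟨j, ⟨hj, hj'⟩, rfl⟩)
        · exact ⟨hΔ.subset_posOf ha, hlast⟩
        · have hja : j ≠ a := by
            rintro rfl
            refine hj' ?_
            have := hlast
            rw [e, mul_smul, refl_smul_idx, smul_neg_idx, hΔ.neg_mem_posOf_iff, not_not] at this
            exact this
          refine ⟨(hΔ.refl_pos_ne isIndiv_of_reduced ha hj hja).1, ?_⟩
          rwa [e, mul_smul, refl_smul_idx, P.reflectionPerm_self]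
    have hnot : a ∉ P.reflectionPerm a '' inv' P Δ (word P t) := by
      rintro ⟨j, ⟨hj, -⟩, hja⟩
      have : j = P.reflectionPerm a a := by
        rw [← P.reflectionPerm_self a j, hja]
      exact hΔ.refl_self_notMem ha (this ▸ hj)
    rw [hset, Set.ncard_insert_of_notMem hnot (Set.toFinite _),
      Set.ncard_image_of_injective _ (P.reflectionPerm a).injective, hht]
    simp

include hΔ in
/-- The strong exchange property. -/
theorem Simple.exchange_root [P.IsReduced] : ∀ l : List ι, (∀ a ∈ l, a ∈ Δ) → ∀ c ∈ posOf P Δ,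
    (word P l)⁻¹ • c ∉ posOf P Δ → ∃ i, i < l.length ∧
      RootPairing.Equiv.reflection P c * word P (l.take (i + 1)) = word P (l.take i) := by
  intro l
  induction l with
  | nil => intro _ c hc h; exact absurd (by simpa [word] using hc) h
  | cons a t ih =>
    intro hl c hc h
    have ha : a ∈ Δ := hl a List.mem_cons_self
    by_cases hca : c = a
    · subst hca
      refine ⟨0, by simp, ?_⟩
      rw [show word P (List.take (0 + 1) (c :: t)) = RootPairing.Equiv.reflection P c by simp [word],
        refl_mul_self]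
      simp [word]
    have hp := (hΔ.refl_pos_ne isIndiv_of_reduced ha hc hca).1
    have hinv : (RootPairing.Equiv.reflection P a)⁻¹ = RootPairing.Equiv.reflection P a :=
      inv_eq_of_mul_eq_one_left (refl_mul_self a)
    rw [word_cons, mul_inv_rev, mul_smul, hinv, refl_smul_idx] at h
    obtain ⟨i, hi, hie⟩ := ih (fun x hx => hl x (List.mem_cons_of_mem _ hx)) _ hp h
    refine ⟨i + 1, by simp; omega, ?_⟩
    have hcj := conj_refl (RootPairing.Equiv.reflection P a) (P.reflectionPerm a c)
    rw [refl_smul_idx, P.reflectionPerm_self, hinv] at hcj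
    rw [List.take_succ_cons, List.take_succ_cons, word_cons, word_cons, ← hie, ← hcj]
    simp only [mul_assoc]
    rw [← mul_assoc (RootPairing.Equiv.reflection P a) (RootPairing.Equiv.reflection P a), refl_mul_self, one_mul]

include hΔ in
theorem Simple.exists_reduced {g : P.Aut} (hg : g ∈ P.weylGroup) :
    ∃ l : List ι, (∀ a ∈ l, a ∈ Δ) ∧ word P l = g ∧
      ∀ l' : List ι, (∀ a ∈ l', a ∈ Δ) → word P l' = g → l.length ≤ l'.length := by
  classical
  rw [← hΔ.gen_eq_weylGroup] at hg
  have hex : ∃ n, ∃ l : List ι, (∀ a ∈ l, a ∈ Δ) ∧ word P l = g ∧ l.length = n := by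
    obtain ⟨l, h1, h2⟩ := exists_word hg; exact ⟨_, l, h1, h2, rfl⟩
  obtain ⟨l, hl, hlg, hlen⟩ := Nat.find_spec hex
  exact ⟨l, hl, hlg, fun l' h1 h2 => hlen ▸ Nat.find_min' hex ⟨l', h1, h2, rfl⟩⟩

include hΔ in
theorem Simple.ncard_inv_lt [P.IsReduced] {g : P.Aut} (hg : g ∈ P.weylGroup) {c : ι}
    (hc : c ∈ posOf P Δ) (hpos : g⁻¹ • c ∈ posOf P Δ) :
    (inv' P Δ g).ncard < (inv' P Δ (RootPairing.Equiv.reflection P c * g)).ncard := by
  have hsc : (RootPairing.Equiv.reflection P c)⁻¹ = RootPairing.Equiv.reflection P c :=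
    inv_eq_of_mul_eq_one_left (refl_mul_self c)
  obtain ⟨l, hl, hlg, hmin⟩ := hΔ.exists_reduced (mul_mem (P.reflection_mem_weylGroup c) hg)
  obtain ⟨l₀, hl₀, hlg₀, hmin₀⟩ := hΔ.exists_reduced hg
  have hneg : (word P l)⁻¹ • c ∉ posOf P Δ := by
    rw [hlg, mul_inv_rev, mul_smul, hsc, refl_smul_idx, smul_neg_idx, hΔ.neg_mem_posOf_iff, not_not]
    exact hpos
  obtain ⟨i, hi, hie⟩ := hΔ.exchange_root l hl c hc hneg
  have hdel : word P (l.take i ++ l.drop (i + 1)) = g := by
    rw [word_append, ← hie, mul_assoc, ← word_append, List.take_append_drop, hlg, ← mul_assoc,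
      refl_mul_self, one_mul]
  have h1 := hmin₀ _ (fun x hx => hl x (by
    rcases List.mem_append.mp hx with h | h
    exacts [List.mem_of_mem_take h, List.mem_of_mem_drop h])) hdel
  rw [← hlg, ← hlg₀, hΔ.ncard_inv_reduced l hl (fun l' h h' => hmin l' h (h'.trans hlg)),
    hΔ.ncard_inv_reduced l₀ hl₀ (fun l' h h' => hmin₀ l' h (h'.trans hlg₀))]
  simp at h1; omega

end Groth.Agent.RootData
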