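import Groth.Agent.RootData.Facts

/-!
# The action of automorphisms on bases
-/

set_option linter.unusedSectionVars false

namespace Groth.Agent.RootData

open Set Function Module RootD

variable {ι R M N : Type*} [CommRing R] [IsDomain R] [CharZero R]
  [AddCommGroup M] [Module R M] [AddCommGroup N] [Module R N]
  {P : RootPairing ι R M N}

theorem coroot_smul (g : P.Aut) (i : ι) :
    P.coroot (g • i) = (RootPairing.Equiv.coweightEquiv P P g).symm (P.coroot i) := by
  rw [LinearEquiv.eq_symm_apply, RootPairing.Equiv.coweightEquiv_apply,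
    RootPairing.Hom.coroot_coweightMap_apply]
  exact congrArg P.coroot (Equiv.symm_apply_apply _ i)

open Classical in
/-- The image of a base under an automorphism. -/
noncomputable def baseSmul (b : P.Base) (g : P.Aut) : P.Base where
  support := b.support.image fun i => g • i
  linearIndepOn_root := by
    rw [Finset.coe_image]
    refine LinearIndepOn.image_of_comp (fun i => g • i) P.root ?_
    rw [show P.root ∘ (fun i => g • i) = (RootPairing.Equiv.weightEquiv P P g).toLinearMap ∘ P.root from
      funext fun i => smul_root g i]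
    exact b.linearIndepOn_root.map' _ (LinearEquiv.ker _)
  linearIndepOn_coroot := by
    rw [Finset.coe_image]
    refine LinearIndepOn.image_of_comp (fun i => g • i) P.coroot ?_
    rw [show P.coroot ∘ (fun i => g • i) = (RootPairing.Equiv.coweightEquiv P P g).symm.toLinearMap ∘ P.coroot from
      funext fun i => coroot_smul g i]
    exact b.linearIndepOn_coroot.map' _ (LinearEquiv.ker _)
  root_mem_or_neg_mem i := by
    obtain ⟨j, rfl⟩ : ∃ j, g • j = i := ⟨g⁻¹ • i, smul_inv_smul g i⟩
    have e : AddSubmonoid.closure (P.root '' ↑(b.support.image fun i => g • i)) =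
        (AddSubmonoid.closure (P.root '' ↑b.support)).map (RootPairing.Equiv.weightEquiv P P g).toLinearMap.toAddMonoidHom := by
      rw [AddMonoidHom.map_mclosure, Finset.coe_image, Set.image_image, Set.image_image]
      simp only [smul_root]
      rfl
    rw [e, smul_root]
    exact (b.root_mem_or_neg_mem j).imp (fun h => ⟨_, h, rfl⟩) fun h => ⟨_, h, map_neg _ _⟩
  coroot_mem_or_neg_mem i := by
    obtain ⟨j, rfl⟩ : ∃ j, g • j = i := ⟨g⁻¹ • i, smul_inv_smul g i⟩
    have e : AddSubmonoid.closure (P.coroot '' ↑(b.support.image fun i => g • i)) =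
        (AddSubmonoid.closure (P.coroot '' ↑b.support)).map
          (RootPairing.Equiv.coweightEquiv P P g).symm.toLinearMap.toAddMonoidHom := by
      rw [AddMonoidHom.map_mclosure, Finset.coe_image, Set.image_image, Set.image_image]
      simp only [coroot_smul]
      rfl
    rw [e, coroot_smul]
    exact (b.coroot_mem_or_neg_mem j).imp (fun h => ⟨_, h, rfl⟩) fun h => ⟨_, h, map_neg _ _⟩

theorem baseSmul_pos (b : P.Base) (g : P.Aut) {i : ι}
    (hi : i ∈ posOf P ((baseSmul b g).support : Set ι)) :
    ∃ x ∈ posOf P (b.support : Set ι), g • x = i := by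
  refine ⟨g⁻¹ • i, ?_, smul_inv_smul g i⟩
  show P.root (g⁻¹ • i) ∈ natSpan P _
  rw [smul_root]
  have hle : natSpan P ((baseSmul b g).support : Set ι) ≤
      (natSpan P (b.support : Set ι)).comap (DistribSMul.toAddMonoidHom M g⁻¹) := by
    refine AddSubmonoid.closure_le.mpr ?_
    rintro _ ⟨k, hk, rfl⟩
    obtain ⟨j, hj, rfl⟩ : ∃ j ∈ b.support, g • j = k := by
      classical exact Finset.mem_image.mp hk
    show g⁻¹ • P.root (g • j) ∈ natSpan P (b.support : Set ι)
    rw [smul_root, inv_smul_smul]
    exact AddSubmonoid.subset_closure ⟨j, hj, rfl⟩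
  exact hle hi

end Groth.Agent.RootData
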