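import Mathlib.LinearAlgebra.RootSystem.WeylGroup
import Mathlib.LinearAlgebra.RootSystem.Finite.Nondegenerate
import Mathlib.LinearAlgebra.RootSystem.Finite.Lemmas
import Groth.Prelude.Def_W4sga3xxiRoot

set_option linter.unusedSectionVars false

/-!
# Root pairings with finitely many roots over a domain of characteristic zero: basic facts

Crystallographic, not necessarily reduced.  Everything is phrased with integer coefficient
vectors `ι → ℤ` so that it applies to `R = ℤ` (root data) as well as to larger rings.
-/

namespace Groth.Agent.RootData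

open Set Function Module

variable {ι R M N : Type*} [CommRing R] [IsDomain R] [CharZero R]
  [AddCommGroup M] [Module R M] [AddCommGroup N] [Module R N]

section general

variable (P : RootPairing ι R M N)

include P in
theorem torsionFreeM : IsAddTorsionFree M := by
  have : Module.IsReflexive R M := .of_isPerfPair P.toLinearMap
  exact .of_isTorsionFree R M

include P in
theorem torsionFreeN : IsAddTorsionFree N := by
  have : Module.IsReflexive R N := .of_isPerfPair P.flip.toLinearMap
  exact .of_isTorsionFree R N

include P in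
theorem zsmul_cancelM {n : ℤ} (hn : n ≠ 0) {x y : M} (h : n • x = n • y) : x = y := by
  have := torsionFreeM P
  exact zsmul_right_injective hn h

theorem root_neg (i : ι) : P.root (P.reflectionPerm i i) = -P.root i := by simp

theorem coroot_neg (i : ι) : P.coroot (P.reflectionPerm i i) = -P.coroot i := by simp

theorem neg_neg_idx (i : ι) :
    P.reflectionPerm (P.reflectionPerm i i) (P.reflectionPerm i i) = i := by
  apply P.root.injective; rw [root_neg, root_neg, neg_neg]

theorem neg_ne (i : ι) : P.reflectionPerm i i ≠ i := by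
  intro h
  have h2 : (2 : ℤ) • P.root i = (2 : ℤ) • (0 : M) := by
    have h1 : -P.root i = P.root i := by rw [← root_neg P i, h]
    rw [smul_zero, two_smul]; nth_rw 1 [← h1]; exact neg_add_cancel _
  exact P.ne_zero i (zsmul_cancelM P (by norm_num) h2)

theorem idx_eq_neg {i j : ι} (h : P.root j = -P.root i) : j = P.reflectionPerm i i := by
  apply P.root.injective; rw [root_neg, h]

theorem two_smul_root (i : ι) : (2 : R) • P.root i = (2 : ℤ) • P.root i := by
  rw [two_smul, two_smul]

end general

variable (P : RootPairing ι R M N) [P.IsCrystallographic]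

/-- The Cartan integer `⟨α_i, α_j^∨⟩`. -/
noncomputable abbrev nn (i j : ι) : ℤ := P.pairingIn ℤ i j

theorem nn_cast (i j : ι) : ((nn P i j : ℤ) : R) = P.pairing i j := by
  simpa using P.algebraMap_pairingIn ℤ i j

theorem nn_self (i : ι) : nn P i i = 2 := by
  apply Int.cast_injective (α := R); rw [nn_cast]; simp

theorem nn_neg_left (i j : ι) : nn P (P.reflectionPerm i i) j = -nn P i j := by
  apply Int.cast_injective (α := R); push_cast; rw [nn_cast, nn_cast]; simp

theorem nn_neg_right (i j : ι) : nn P i (P.reflectionPerm j j) = -nn P i j := by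
  apply Int.cast_injective (α := R); push_cast; rw [nn_cast, nn_cast]; simp

theorem refl_root (i j : ι) :
    P.root (P.reflectionPerm i j) = P.root j - nn P j i • P.root i := by
  rw [P.root_reflectionPerm, P.reflection_apply_root, ← nn_cast, Int.cast_smul_eq_zsmul]

theorem nn_eq_zero_symm {i j : ι} (h : nn P i j = 0) : nn P j i = 0 := by
  have h' : P.pairing i j = 0 := by rw [← nn_cast, h, Int.cast_zero]
  apply Int.cast_injective (α := R); rw [nn_cast, Int.cast_zero]
  exact P.pairing_eq_zero_iff'.mp h'

theorem orth_iff {i j : ι} : P.IsOrthogonal i j ↔ nn P i j = 0 := by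
  constructor
  · intro h; apply Int.cast_injective (α := R); rw [nn_cast, Int.cast_zero]; exact h.1
  · intro h
    exact ⟨by rw [← nn_cast, h, Int.cast_zero], by rw [← nn_cast, nn_eq_zero_symm P h, Int.cast_zero]⟩

/-- Value of a coroot functional on an integer combination of roots. -/
theorem coroot'_comb [Fintype ι] (c : ι → ℤ) (k : ι) :
    P.coroot' k (∑ a, c a • P.root a) = ((∑ a, c a * nn P a k : ℤ) : R) := by
  rw [map_sum, Int.cast_sum]
  refine Finset.sum_congr rfl fun a _ => ?_
  rw [map_zsmul, Int.cast_mul, nn_cast, zsmul_eq_mul]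
  simp

theorem comb_zero_iff [Fintype ι] (c : ι → ℤ) :
    ∑ a, c a • P.root a = 0 ↔ ∀ k, ∑ a, c a * nn P a k = 0 := by
  refine ⟨fun h k => ?_, fun h => ?_⟩
  · apply Int.cast_injective (α := R)
    rw [← coroot'_comb, h, map_zero, Int.cast_zero]
  · set x := ∑ a, c a • P.root a
    have hx : x ∈ P.rootSpan R := Submodule.sum_mem _ fun a _ =>
      zsmul_mem (Submodule.subset_span (mem_range_self a)) _
    have hker : x ∈ LinearMap.ker P.RootForm := by
      rw [LinearMap.mem_ker]; ext y
      rw [P.rootForm_apply_apply]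
      simp [x, coroot'_comb P c, h]
    exact Submodule.disjoint_def.mp P.disjoint_rootSpan_ker_rootForm x hx hker

theorem nn_eq_of_root_comb [Fintype ι] {j : ι} {c : ι → ℤ} (h : P.root j = ∑ a, c a • P.root a)
    (k : ι) : nn P j k = ∑ a, c a * nn P a k := by
  apply Int.cast_injective (α := R); rw [← coroot'_comb, ← h, nn_cast]; simp

theorem nn_zsmul {i j : ι} {m n : ℤ} (h : m • P.root i = n • P.root j) (k : ι) :
    m * nn P i k = n * nn P j k := by
  apply Int.cast_injective (α := R); push_cast
  rw [nn_cast, nn_cast]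
  simpa [zsmul_eq_mul] using congrArg (P.coroot' k) h

theorem nn_add {i j k : ι} (h : P.root k = P.root i + P.root j) (l : ι) :
    nn P k l = nn P i l + nn P j l := by
  apply Int.cast_injective (α := R); push_cast
  rw [nn_cast, nn_cast, nn_cast]; exact P.pairing_eq_add_of_root_eq_add h

/-- An integral invariant positive form on roots. -/
noncomputable def bz [Fintype ι] (a b : ι) : ℤ := ∑ k, nn P a k * nn P b k

theorem bz_cast [Fintype ι] (a b : ι) : (bz P a b : R) = P.RootForm (P.root a) (P.root b) := by
  rw [P.rootForm_apply_apply, bz, Int.cast_sum]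
  refine Finset.sum_congr rfl fun k _ => ?_
  rw [Int.cast_mul, nn_cast, nn_cast]; simp

theorem bz_comm [Fintype ι] (a b : ι) : bz P a b = bz P b a :=
  Finset.sum_congr rfl fun _ _ => mul_comm _ _

theorem bz_self_pos [Fintype ι] (a : ι) : 0 < bz P a a :=
  Finset.sum_pos' (fun k _ => mul_self_nonneg _) ⟨a, Finset.mem_univ _, by rw [nn_self]; norm_num⟩

theorem two_bz [Fintype ι] (a b : ι) : 2 * bz P a b = nn P a b * bz P b b := by
  apply Int.cast_injective (α := R); push_cast
  rw [bz_cast, bz_cast, nn_cast]
  exact P.toInvariantForm.two_mul_apply_root_root a b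

theorem bz_refl [Fintype ι] (i a b : ι) :
    bz P (P.reflectionPerm i a) (P.reflectionPerm i b) = bz P a b := by
  apply Int.cast_injective (α := R); rw [bz_cast, bz_cast]; simp

variable [Finite ι]

theorem nn_pos_comm {i j : ι} : 0 < nn P i j ↔ 0 < nn P j i := P.zero_lt_pairingIn_iff' ℤ

theorem nn_neg_comm {i j : ι} : nn P i j < 0 ↔ nn P j i < 0 := P.pairingIn_lt_zero_iff ℤ

theorem nn_nonpos_comm {i j : ι} : nn P i j ≤ 0 ↔ nn P j i ≤ 0 := by
  rw [← not_lt, ← not_lt, nn_pos_comm]

theorem exists_sub {i j : ι} (h : 0 < nn P i j) (hne : i ≠ j) :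
    ∃ k, P.root k = P.root i - P.root j :=
  P.root_sub_root_mem_of_pairingIn_pos h hne

theorem exists_add {i j : ι} (h : nn P i j < 0) (hne : j ≠ P.reflectionPerm i i) :
    ∃ k, P.root k = P.root i + P.root j := by
  apply P.root_add_root_mem_of_pairingIn_neg h
  intro h'
  exact hne (idx_eq_neg P (by rw [h', neg_neg]))

theorem bz_nonpos_iff [Fintype ι] {a b : ι} : bz P a b ≤ 0 ↔ nn P a b ≤ 0 := by
  have h := two_bz P a b
  have hb := bz_self_pos P b
  constructor <;> intro hh
  · by_contra hc
    nlinarith [mul_pos (not_le.mp hc) hb]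
  · nlinarith [mul_nonpos_of_nonpos_of_nonneg hh hb.le]

/-- Two obtuse non-negative combinations with the same value both vanish. -/
theorem comb_obtuse [Fintype ι] (c d : ι → ℤ) (hc : ∀ a, 0 ≤ c a) (hd : ∀ a, 0 ≤ d a)
    (h : ∀ a b, c a ≠ 0 → d b ≠ 0 → nn P a b ≤ 0)
    (heq : ∑ a, c a • P.root a = ∑ a, d a • P.root a) :
    ∑ a, c a • P.root a = 0 := by
  rw [comb_zero_iff]
  have e : ∀ k, ∑ a, c a * nn P a k = ∑ a, d a * nn P a k := fun k => by
    apply Int.cast_injective (α := R); rw [← coroot'_comb, ← coroot'_comb, heq]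
  have hs : ∑ k, (∑ a, c a * nn P a k) * (∑ a, c a * nn P a k)
      = ∑ a, ∑ b, c a * d b * bz P a b := by
    calc _ = ∑ k, (∑ a, c a * nn P a k) * (∑ b, d b * nn P b k) := by
          exact Finset.sum_congr rfl fun k _ => by rw [← e k]
      _ = ∑ k, ∑ a, ∑ b, c a * d b * (nn P a k * nn P b k) := by
          refine Finset.sum_congr rfl fun k _ => ?_
          rw [Finset.sum_mul_sum]
          exact Finset.sum_congr rfl fun a _ => Finset.sum_congr rfl fun b _ => by ring
      _ = _ := by
          rw [Finset.sum_comm]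
          refine Finset.sum_congr rfl fun a _ => ?_
          rw [Finset.sum_comm]
          exact Finset.sum_congr rfl fun b _ => by rw [bz, Finset.mul_sum]
  have hle : ∑ a, ∑ b, c a * d b * bz P a b ≤ 0 := by
    refine Finset.sum_nonpos fun a _ => Finset.sum_nonpos fun b _ => ?_
    by_cases ha : c a = 0
    · simp [ha]
    by_cases hb : d b = 0
    · simp [hb]
    exact mul_nonpos_of_nonneg_of_nonpos (mul_nonneg (hc a) (hd b))
      ((bz_nonpos_iff P).mpr (h a b ha hb))
  intro k
  have hk := Finset.single_le_sum (f := fun k => (∑ a, c a * nn P a k) * (∑ a, c a * nn P a k))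
    (fun k _ => mul_self_nonneg _) (Finset.mem_univ k)
  rw [hs] at hk
  nlinarith [mul_self_nonneg (∑ a, c a * nn P a k)]

/-- Proportional roots differ by a factor `±1`, `±2` or `±1/2`. -/
theorem proportional_cases {i j : ι} {m n : ℤ} (hn : n ≠ 0) (h : m • P.root i = n • P.root j) :
    P.root j = P.root i ∨ P.root j = -P.root i ∨ P.root j = (2 : ℤ) • P.root i ∨
      P.root j = (-2 : ℤ) • P.root i ∨ P.root i = (2 : ℤ) • P.root j ∨
      P.root i = (-2 : ℤ) • P.root j := by
  have h1 := nn_zsmul P h i
  have h2 := nn_zsmul P h j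
  rw [nn_self] at h1 h2
  have key : nn P j i * nn P i j = 4 := by
    apply mul_left_cancel₀ hn
    rw [← mul_assoc, ← h1]; linarith
  have hm : m ≠ 0 := by
    rintro rfl; simp at h2; exact hn h2
  have hp := P.pairingIn_pairingIn_mem_set_of_isCrystallographic j i
  simp only [mem_insert_iff, mem_singleton_iff, Prod.mk.injEq] at hp
  obtain hp | hp | hp | hp | hp | hp :
      (nn P j i = 2 ∧ nn P i j = 2) ∨ (nn P j i = -2 ∧ nn P i j = -2) ∨
      (nn P j i = 4 ∧ nn P i j = 1) ∨ (nn P j i = -4 ∧ nn P i j = -1) ∨
      (nn P j i = 1 ∧ nn P i j = 4) ∨ (nn P j i = -1 ∧ nn P i j = -4) := by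
    unfold nn at key ⊢
    rcases hp with h | h | h | h | h | h | h | h | h | h | h | h | h | h | h | h | h <;>
      simp_all
  all_goals rw [hp.1] at h1
  all_goals rw [hp.2] at h2
  · left; apply zsmul_cancelM P hn; rw [← h, show m = n by linarith]
  · right; left; apply zsmul_cancelM P hn; rw [← h, show m = -n by linarith, neg_smul, smul_neg]
  · right; right; left; apply zsmul_cancelM P hn; rw [← h, smul_smul, show m = n * 2 by linarith]
  · right; right; right; left; apply zsmul_cancelM P hn
    rw [← h, smul_smul, show m = n * -2 by linarith]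
  · right; right; right; right; left; apply zsmul_cancelM P hm
    rw [h, smul_smul, show n = m * 2 by linarith]
  · right; right; right; right; right; apply zsmul_cancelM P hm
    rw [h, smul_smul, show n = m * -2 by linarith]

end Groth.Agent.RootData
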