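import Groth.Agent.RootData.Basic
import Mathlib.Algebra.Group.Submonoid.BigOperators
import Mathlib.Algebra.BigOperators.Group.List.Lemmas

/-!
# Closed sets of roots and non-negative combinations
-/

set_option linter.unusedSectionVars false

namespace Groth.Agent.RootData

open Set Function Module RootD

variable {ι R M N : Type*} [CommRing R] [IsDomain R] [CharZero R]
  [AddCommGroup M] [Module R M] [AddCommGroup N] [Module R N]
  {P : RootPairing ι R M N} [P.IsCrystallographic] [Finite ι]

theorem natSpan_iff_list {S : Set ι} {x : M} :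
    x ∈ natSpan P S ↔ ∃ l : List ι, (∀ a ∈ l, a ∈ S) ∧ (l.map P.root).sum = x := by
  constructor
  · intro hx
    induction hx using AddSubmonoid.closure_induction with
    | mem y hy => obtain ⟨a, ha, rfl⟩ := hy; exact ⟨[a], by simpa using ha, by simp⟩
    | zero => exact ⟨[], by simp, by simp⟩
    | add y z _ _ hy hz =>
      obtain ⟨l, hl, rfl⟩ := hy; obtain ⟨l', hl', rfl⟩ := hz
      exact ⟨l ++ l', by simpa [or_imp, forall_and] using ⟨hl, hl'⟩, by simp⟩
  · rintro ⟨l, hl, rfl⟩
    refine list_sum_mem fun y hy => ?_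
    obtain ⟨a, ha, rfl⟩ := List.mem_map.mp hy
    exact AddSubmonoid.subset_closure ⟨a, hl a ha, rfl⟩

theorem root_mem_natSpan {S : Set ι} {i : ι} (hi : i ∈ S) : P.root i ∈ natSpan P S :=
  AddSubmonoid.subset_closure ⟨i, hi, rfl⟩

theorem natSpan_iff_coef [Fintype ι] {S : Set ι} {x : M} :
    x ∈ natSpan P S ↔
      ∃ c : ι → ℕ, (∀ a, a ∉ S → c a = 0) ∧ ∑ a, c a • P.root a = x := by
  classical
  constructor
  · intro hx
    induction hx using AddSubmonoid.closure_induction with
    | mem y hy =>
      obtain ⟨a, ha, rfl⟩ := hy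
      exact ⟨Pi.single a 1, fun b hb => Pi.single_eq_of_ne (by rintro rfl; exact hb ha) _,
        by simp [Pi.single_apply]⟩
    | zero => exact ⟨0, by simp, by simp⟩
    | add y z _ _ hy hz =>
      obtain ⟨c, hc, rfl⟩ := hy; obtain ⟨d, hd, rfl⟩ := hz
      exact ⟨c + d, fun a ha => by simp [hc a ha, hd a ha],
        by simp [add_smul, Finset.sum_add_distrib]⟩
  · rintro ⟨c, hc, rfl⟩
    refine sum_mem fun a _ => ?_
    by_cases ha : a ∈ S
    · exact nsmul_mem (root_mem_natSpan ha) _
    · simp [hc a ha]

theorem natSpan_mono {S T : Set ι} (h : S ⊆ T) : natSpan P S ≤ natSpan P T :=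
  AddSubmonoid.closure_mono (image_mono h)

theorem natSpan_le_natSpan {S T : Set ι} (h : ∀ i ∈ S, P.root i ∈ natSpan P T) :
    natSpan P S ≤ natSpan P T := by
  refine AddSubmonoid.closure_le.mpr ?_
  rintro _ ⟨i, hi, rfl⟩; exact h i hi

theorem list_nn_sum {l : List ι} {k : ι} {c : ℤ}
    (h : (l.map P.root).sum = c • P.root k) (x : ι) :
    (l.map (nn P · x)).sum = c * nn P k x := by
  apply Int.cast_injective (α := R)
  have h' := congrArg (P.coroot' x) h
  rw [map_list_sum, map_zsmul, List.map_map] at h'
  simp only [Int.cast_mul, nn_cast, Int.cast_list_sum, List.map_map, Function.comp_def]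
  rw [← zsmul_eq_mul]
  simpa [Function.comp_def] using h'

theorem exists_pos_of_list_sum {l : List ι} {k : ι} {c : ℤ} (hc : 0 < c)
    (h : (l.map P.root).sum = c • P.root k) : ∃ a ∈ l, 0 < nn P a k := by
  by_contra hh
  push Not at hh
  have := list_nn_sum h k
  have h' : (l.map (nn P · k)).sum ≤ 0 := by
    refine (List.sum_le_card_nsmul _ 0 fun x hx => ?_).trans (by simp)
    obtain ⟨a, ha, rfl⟩ := List.mem_map.mp hx; exact hh a ha
  rw [this, nn_self] at h'; omega

/-- A root that is a sum of roots can be split off one of its summands. -/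
theorem root_list_split {l : List ι} {k : ι} (h : (l.map P.root).sum = P.root k) :
    ∃ a l', l.Perm (a :: l') ∧ (a = k ∧ (l'.map P.root).sum = 0 ∨
      ∃ j, P.root k = P.root a + P.root j ∧ (l'.map P.root).sum = P.root j) := by
  classical
  obtain ⟨a, ha, hpos⟩ := exists_pos_of_list_sum (P := P) (k := k) (l := l) (c := 1) one_pos (by rw [one_smul]; exact h)
  refine ⟨a, l.erase a, List.perm_cons_erase ha, ?_⟩
  have hs : P.root a + ((l.erase a).map P.root).sum = P.root k := by
    rw [← h, ((List.perm_cons_erase ha).map P.root).sum_eq]; simp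
  by_cases hak : a = k
  · left; refine ⟨hak, ?_⟩
    subst hak; simpa using hs
  · right
    obtain ⟨j, hj⟩ := exists_sub P ((nn_pos_comm P).mp hpos) (Ne.symm hak)
    exact ⟨j, by rw [hj]; abel, by rw [hj, ← hs]; abel⟩

theorem closed_mem_of_list {S : Set ι} (hS : IsClosedSub P S) :
    ∀ (l : List ι) (k : ι), (∀ a ∈ l, a ∈ S) → (l.map P.root).sum = P.root k → k ∈ S := by
  intro l
  induction hn : l.length using Nat.strong_induction_on generalizing l with
  | _ n ih =>
    intro k hl h
    obtain ⟨a, l', hp, ⟨rfl, -⟩ | ⟨j, hj, hl'⟩⟩ := root_list_split h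
    · exact hl _ (hp.symm.subset (List.mem_cons_self))
    · have hmem : ∀ x ∈ a :: l', x ∈ S := fun x hx => hl x (hp.symm.subset hx)
      have hlen : l'.length < n := by rw [← hn, hp.length_eq]; simp
      have hjS := ih _ hlen l' rfl j (fun x hx => hmem x (List.mem_cons_of_mem _ hx)) hl'
      exact hS (hmem a List.mem_cons_self) hjS hj

theorem closed_iff_natSpan {S : Set ι} :
    IsClosedSub P S ↔ ∀ k : ι, P.root k ∈ natSpan P S → k ∈ S := by
  constructor
  · intro h k hk
    obtain ⟨l, hl, hs⟩ := natSpan_iff_list.mp hk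
    exact closed_mem_of_list h l k hl hs
  · intro h i j k hi hj hk
    exact h k (hk ▸ add_mem (root_mem_natSpan hi) (root_mem_natSpan hj))

/-- A closed set of roots without opposite pairs generates a pointed cone. -/
theorem closed_list_ne_zero {S : Set ι} (hS : IsClosedSub P S)
    (hd : ∀ i ∈ S, P.reflectionPerm i i ∉ S) :
    ∀ l : List ι, (∀ a ∈ l, a ∈ S) → (l.map P.root).sum = 0 → l = [] := by
  classical
  intro l
  induction hn : l.length using Nat.strong_induction_on generalizing l with
  | _ n ih =>
    intro hl h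
    match l, hl, h, hn with
    | [], _, _, _ => rfl
    | a :: t, hl, h, hn =>
      exfalso
      have h0 := list_nn_sum (P := P) (c := 0) (k := a) (l := a :: t) (by rw [zero_smul]; exact h) a
      rw [List.map_cons, List.sum_cons, nn_self, zero_mul] at h0
      obtain ⟨b, hb, hneg⟩ : ∃ b ∈ t, nn P b a < 0 := by
        by_contra hh; push Not at hh
        have : 0 ≤ (t.map (nn P · a)).sum := List.sum_nonneg fun x hx => by
          obtain ⟨y, hy, rfl⟩ := List.mem_map.mp hx; exact hh y hy
        omega
      have haS : a ∈ S := hl a List.mem_cons_self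
      have hbS : b ∈ S := hl b (List.mem_cons_of_mem _ hb)
      obtain ⟨k, hk⟩ := exists_add P ((nn_neg_comm P).mp hneg)
        (fun he => hd a haS (he ▸ hbS))
      have hkS := hS haS hbS hk
      have hsum : P.root a + (P.root b + ((t.erase b).map P.root).sum) = 0 := by
        rw [← h, List.map_cons, List.sum_cons, ((List.perm_cons_erase hb).map P.root).sum_eq]
        simp
      have hlen : (k :: t.erase b).length < n := by
        rw [← hn, List.length_cons, List.length_cons, List.length_erase_of_mem hb]
        have := List.length_pos_of_mem hb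
        omega
      have := ih _ hlen (k :: t.erase b) rfl
        (by
          intro x hx
          rcases List.mem_cons.mp hx with rfl | hx
          · exact hkS
          · exact hl x (List.mem_cons_of_mem _ (List.mem_of_mem_erase hx)))
        (by rw [List.map_cons, List.sum_cons, hk, add_assoc, hsum])
      exact List.cons_ne_nil _ _ this

theorem pointed_coef [Fintype ι] {S : Set ι} (hS : IsClosedSub P S)
    (hd : ∀ i ∈ S, P.reflectionPerm i i ∉ S) {c : ι → ℕ} (hc : ∀ a, a ∉ S → c a = 0)
    (h : ∑ a, c a • P.root a = 0) : c = 0 := by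
  classical
  let l : List ι := (Finset.univ : Finset ι).toList.flatMap fun a => List.replicate (c a) a
  have hl : ∀ a ∈ l, a ∈ S := by
    intro a ha
    simp only [l, List.mem_flatMap, List.mem_replicate] at ha
    obtain ⟨b, -, hb, rfl⟩ := ha
    by_contra hh; exact hb (hc a hh)
  have hsum : (l.map P.root).sum = 0 := by
    rw [← h, ← Finset.sum_map_toList (Finset.univ : Finset ι)]
    simp only [l]
    induction (Finset.univ : Finset ι).toList with
    | nil => simp
    | cons x t iht => simp [iht]
  have := closed_list_ne_zero hS hd l hl hsum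
  funext a
  by_contra ha
  have hmem : a ∈ l := by
    simp only [l, List.mem_flatMap, List.mem_replicate]
    exact ⟨a, by simp, ha, rfl⟩
  rw [this] at hmem; simp at hmem

theorem pointed_add {S : Set ι} (hS : IsClosedSub P S) (hd : ∀ i ∈ S, P.reflectionPerm i i ∉ S)
    {x : M} (hx : x ∈ natSpan P S) (hnx : -x ∈ natSpan P S) : x = 0 := by
  obtain ⟨l, hl, hlx⟩ := natSpan_iff_list.mp hx
  obtain ⟨l', hl', hlx'⟩ := natSpan_iff_list.mp hnx
  have := closed_list_ne_zero hS hd (l ++ l') (by simpa [or_imp, forall_and] using ⟨hl, hl'⟩)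
    (by rw [List.map_append, List.sum_append, hlx, hlx', add_neg_cancel])
  rw [← hlx, (List.append_eq_nil_iff.mp this).1]; simp

theorem isPosSys_closed {S : Set ι} (hS : IsPosSys P S) : IsClosedSub P S := by
  intro i j k hi hj hk
  exact hS.sat 1 one_pos (by rw [one_smul, hk]; exact add_mem (root_mem_natSpan hi) (root_mem_natSpan hj))

theorem isPosSys_of_closed {S : Set ι} (hd : ∀ i ∈ S, P.reflectionPerm i i ∉ S)
    (hc : ∀ i, i ∈ S ∨ P.reflectionPerm i i ∈ S) (hS : IsClosedSub P S) : IsPosSys P S where
  disjoint i := hd i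
  cover := hc
  sat k n hn hk := by
    refine (hc k).resolve_right fun hneg => ?_
    have hneg' : -(n • P.root k) ∈ natSpan P S := by
      rw [← smul_neg, ← root_neg]; exact nsmul_mem (root_mem_natSpan hneg) _
    have h0 := pointed_add hS hd hk hneg'
    refine P.ne_zero k (zsmul_cancelM P (Int.natCast_ne_zero.mpr hn.ne') ?_)
    rw [natCast_zsmul, h0, smul_zero]

theorem posSys_mem_iff {S : Set ι} (hS : IsPosSys P S) {k : ι} :
    P.root k ∈ natSpan P S ↔ k ∈ S :=
  ⟨closed_iff_natSpan.mp (isPosSys_closed hS) k, root_mem_natSpan⟩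

theorem posSys_eq_of_subset {S T : Set ι} (hS : IsPosSys P S) (hT : IsPosSys P T) (h : S ⊆ T) :
    S = T := by
  refine h.antisymm fun i hi => (hS.cover i).resolve_right fun hn => hT.disjoint hi (h hn)

theorem neg_mem_iff_not {S : Set ι} (hS : IsPosSys P S) {i : ι} :
    P.reflectionPerm i i ∈ S ↔ i ∉ S :=
  ⟨fun h h' => hS.disjoint h' h, fun h => (hS.cover i).resolve_left h⟩

end Groth.Agent.RootData
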