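import Groth.Agent.RootData.Lengths

/-!
# Coroots of a system of simple roots
-/

set_option linter.unusedSectionVars false

namespace Groth.Agent.RootData

open Set Function Module RootD

variable {ι M N : Type*} [AddCommGroup M] [AddCommGroup N] [Fintype ι]
  {P : RootPairing ι ℤ M N}

theorem nn_flip (a b : ι) : nn P.flip a b = nn P b a := by
  apply Int.cast_injective (α := ℤ); rw [nn_cast, nn_cast]; simp

theorem coroot_comb_zero {c : ι → ℤ} (h : ∀ k, ∑ a, c a * nn P k a = 0) :
    ∑ a, c a • P.coroot a = 0 := by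
  refine (comb_zero_iff P.flip c).mpr fun k => ?_
  simpa only [nn_flip] using h k

theorem pair_coroot_comb {c : ι → ℤ} (h : ∑ a, c a • P.coroot a = 0) (k : ι) :
    ∑ a, c a * nn P k a = 0 := by
  have := (comb_zero_iff P.flip c).mp h k
  simpa only [nn_flip] using this

theorem coroot_of_double {a k : ι} (h : P.root k = (2 : ℤ) • P.root a) :
    (2 : ℤ) • P.coroot k = P.coroot a := by
  classical
  have hk : ∀ x, nn P k x = 2 * nn P a x := fun x => by
    have := nn_eq_of_root_comb P (c := Pi.single a 2) (j := k) (by rw [h]; simp [Pi.single_apply]) x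
    simpa [Pi.single_apply] using this
  have hbz : bz P k k = 4 * bz P a a := by
    simp only [bz, hk, Finset.mul_sum]; exact Finset.sum_congr rfl fun x _ => by ring
  have := coroot_comb_zero (P := P) (c := Pi.single k 2 - Pi.single a 1) fun x => ?_
  · simp [Pi.single_apply, sub_smul, Finset.sum_sub_distrib] at this
    exact sub_eq_zero.mp this
  · simp [Pi.single_apply, sub_mul, Finset.sum_sub_distrib]
    have e1 := bz_swap (P := P) x k
    have e2 := bz_swap (P := P) x a
    rw [hk x, hbz] at e1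
    have ha := bz_self_pos P a
    refine mul_right_cancel₀ (b := 2 * bz P a a) (by omega) ?_
    linear_combination e1 - 2 * e2

theorem Simple.coroot_li {Δ : Set ι} (h : Simple P Δ) : LinearIndepOn ℤ P.coroot Δ := by
  classical
  refine linearIndepOn_iff'.mpr fun s g hs h0 i hi => ?_
  set c : ι → ℤ := fun a => if a ∈ s then g a else 0
  have hc : ∀ k, ∑ a, c a * nn P k a = 0 := pair_coroot_comb (by
    rw [← h0]; simp [c, ite_smul, Finset.sum_ite_mem])
  set d : ι → ℤ := fun a => c a * ∏ b ∈ Finset.univ.erase a, bz P b b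
  have hprod : ∀ a, bz P a a * ∏ b ∈ Finset.univ.erase a, bz P b b = ∏ b, bz P b b := fun a =>
    Finset.mul_prod_erase Finset.univ (fun b => bz P b b) (Finset.mem_univ a)
  have hd : ∀ k, ∑ a, d a * nn P a k = 0 := by
    intro k
    have : (∑ a, d a * nn P a k) * bz P k k = (∑ a, c a * nn P k a) * ∏ b, bz P b b := by
      simp only [d, Finset.sum_mul]
      refine Finset.sum_congr rfl fun a _ => ?_
      rw [← hprod a]
      linear_combination (c a * ∏ b ∈ Finset.univ.erase a, bz P b b) * bz_swap (P := P) a k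
    rw [hc k, zero_mul] at this
    exact (mul_eq_zero.mp this).resolve_right (bz_self_pos P k).ne'
  have hz : d = 0 := li_comb_eq_zero h.li (fun a ha => by
    simp [d, c, show a ∉ s from fun hh => ha (hs hh)]) ((comb_zero_iff P d).mpr hd)
  have := congrFun hz i
  simp only [d, c, if_pos hi, Pi.zero_apply, mul_eq_zero] at this
  exact this.resolve_right (Finset.prod_ne_zero_iff.mpr fun b _ => (bz_self_pos P b).ne')

theorem flip_linIndep {Δ T : Set ι} (h : Simple P Δ)
    (hT : ∀ j ∈ T, ∃ a ∈ Δ, ∃ q : ℤ, q ≠ 0 ∧ (2 : ℤ) • P.coroot j = q • P.coroot a)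
    (hinj : ∀ j ∈ T, ∀ i ∈ T, ∀ a ∈ Δ, (∃ q : ℤ, (2 : ℤ) • P.coroot j = q • P.coroot a) →
      (∃ q : ℤ, (2 : ℤ) • P.coroot i = q • P.coroot a) → j = i) :
    LinearIndepOn ℤ P.flip.root T := by
  classical
  choose a ha q hq he using hT
  let φ : T → Δ := fun j => ⟨a j.1 j.2, ha j.1 j.2⟩
  have hφ : Function.Injective φ := fun j i hji => Subtype.ext <|
    hinj j.1 j.2 i.1 i.2 (a j.1 j.2) (ha j.1 j.2) ⟨_, he j.1 j.2⟩ ⟨q i.1 i.2, by
      rw [he i.1 i.2, show a i.1 i.2 = a j.1 j.2 from (congrArg Subtype.val hji).symm]⟩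
  have hli : LinearIndependent ℤ (fun j : T => P.coroot (a j.1 j.2)) := h.coroot_li.comp φ hφ
  refine linearIndependent_iff'.mpr fun s g h0 i hi => ?_
  have := linearIndependent_iff'.mp hli s (fun j => g j * q j.1 j.2) (by
    have h1 : ∑ j ∈ s, g j • P.coroot j.1 = 0 := h0
    calc ∑ j ∈ s, (g j * q j.1 j.2) • P.coroot (a j.1 j.2)
        = ∑ j ∈ s, (2 : ℤ) • g j • P.coroot j.1 := Finset.sum_congr rfl fun j _ => by
          rw [mul_smul, ← he j.1 j.2, smul_comm]
      _ = 0 := by rw [← Finset.smul_sum, h1, smul_zero]) i hi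
  exact (mul_eq_zero.mp this).resolve_right (hq _ _)

end Groth.Agent.RootData
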