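import Groth.Agent.RootData.Facts
import Groth.Agent.RootData.Lengths

/-!
# Dominant maps
-/

set_option linter.unusedSectionVars false

namespace Groth.Agent.RootData

open Set Function Module RootD

variable {ι M N : Type*} [AddCommGroup M] [AddCommGroup N] [Fintype ι]
  {P : RootPairing ι ℤ M N}

theorem bz_smul_coroot {Δ : Set ι} (h : Simple P Δ) (k : ι) (m : M) :
    bz P k k * P.coroot' k m = ∑ a, h.co k a * bz P a a * P.coroot' a m := by
  classical
  have hz : ∑ a, (Pi.single k (bz P k k) - fun a => h.co k a * bz P a a : ι → ℤ) a • P.coroot a = 0 := by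
    refine (comb_zero_iff P.flip _).mpr fun x => ?_
    simp only [show ∀ a b, nn P.flip a b = nn P b a from fun a b => by
      apply Int.cast_injective (α := ℤ); rw [nn_cast, nn_cast]; simp]
    simp only [Pi.sub_apply, sub_mul, Finset.sum_sub_distrib, Pi.single_apply, ite_mul, zero_mul,
      Finset.sum_ite_eq', Finset.mem_univ, if_true]
    rw [sub_eq_zero]
    calc bz P k k * nn P x k = nn P k x * bz P x x := by linear_combination bz_swap (P := P) x k
      _ = _ := by
        rw [h.nn_eq k x, Finset.sum_mul]
        exact Finset.sum_congr rfl fun a _ => by linear_combination -(h.co k a) * bz_swap (P := P) x a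
  have hval := congrArg (P.toLinearMap m) hz
  simp [sub_smul, Finset.sum_sub_distrib, Pi.single_apply, sub_eq_zero] at hval
  exact hval

/-- A weight positive on all positive coroots. -/
theorem exists_regular {S : Set ι} (hS : IsPosSys P S) : ∃ x : M, ∀ k ∈ S, 0 < P.coroot' k x := by
  classical
  set Δ := indec P S
  have h := indec_simple hS
  set T := Finset.univ.filter (fun k => k ∈ posOf P Δ)
  refine ⟨∑ k ∈ T, P.root k, fun k hk => ?_⟩
  have hsimp : ∀ a ∈ Δ, 0 < P.coroot' a (∑ k ∈ T, P.root k) := by
    intro a ha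
    rw [map_sum, Finset.sum_congr rfl fun k _ => show P.coroot' a (P.root k) = nn P k a from by
      rw [P.root_coroot'_eq_pairing, ← nn_cast P k a, Int.cast_id]]
    set E := T.filter (fun k => P.reflectionPerm a k ∉ posOf P Δ)
    have hrest : ∑ k ∈ T.filter (fun k => ¬ P.reflectionPerm a k ∉ posOf P Δ), nn P k a = 0 := by
      refine Finset.sum_involution (fun k _ => P.reflectionPerm a k) (fun k _ => ?_) (fun k _ hne => ?_)
        (fun k hk => ?_) (fun k _ => P.reflectionPerm_self a k)
      · have := nn_smul (RootPairing.Equiv.reflection P a) k (P.reflectionPerm a a)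
        rw [refl_smul_idx, refl_smul_idx, P.reflectionPerm_self, nn_neg_right] at this
        omega
      · intro e
        have h2 := congrArg P.root e
        rw [refl_root, sub_eq_self] at h2
        exact P.ne_zero a (zsmul_cancelM P hne (h2.trans (smul_zero _).symm))
      · simp only [Finset.mem_filter, T, Finset.mem_univ, true_and, not_not] at hk ⊢
        exact ⟨hk.2, by rw [P.reflectionPerm_self]; exact hk.1⟩
    rw [← Finset.sum_filter_add_sum_filter_not T (fun k => P.reflectionPerm a k ∉ posOf P Δ), hrest,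
      add_zero]
    have hmem : ∀ x ∈ E, x = a ∨ P.root x = (2 : ℤ) • P.root a := by
      intro x hx
      simp only [E, T, Finset.mem_filter, Finset.mem_univ, true_and] at hx
      refine h.pos_multiple ha hx.1 fun b hb => ?_
      by_contra hne
      exact hx.2 (h.refl_pos ha hx.1 ⟨b, hb, hne⟩)
    refine Finset.sum_pos (fun x hx => ?_) ⟨a, ?_⟩
    · rcases hmem x hx with rfl | e
      · rw [nn_self]; norm_num
      · rw [nn_eq_of_root_comb P (c := Pi.single a 2) (by rw [e]; simp [Pi.single_apply]) a]
        simp [Pi.single_apply, nn_self]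
    · simp only [T, Finset.mem_filter, Finset.mem_univ, true_and]
      exact ⟨h.subset_posOf ha, h.refl_self_notMem ha⟩
  have hk' : k ∈ posOf P Δ := by rw [posOf_indec hS]; exact hk
  refine pos_of_mul_pos_right ?_ (bz_self_pos P k).le
  rw [bz_smul_coroot h k]
  obtain ⟨b, hb⟩ := h.mem_posOf_iff'.mp hk'
  refine Finset.sum_pos' (fun a _ => ?_) ⟨b, Finset.mem_univ b, ?_⟩
  · by_cases ha : a ∈ Δ
    · exact mul_nonneg (mul_nonneg (h.mem_posOf_iff.mp hk' a) (bz_self_pos P a).le) (hsimp a ha).le
    · simp [h.co_supp ha]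
  · exact mul_pos (mul_pos hb (bz_self_pos P b))
      (hsimp b (by_contra fun hh => by rw [h.co_supp hh] at hb; omega))

/-- Every weight has a dominant conjugate. -/
theorem exists_smul_dominant_weight {S : Set ι} (hS : IsPosSys P S) (m : M) :
    ∃ g ∈ P.weylGroup, ∀ i ∈ S, 0 ≤ P.coroot' i (g • m) := by
  have h := indec_simple hS
  have hcl : IsClosedSub P {i | 0 ≤ P.coroot' i m} := by
    intro i j k hi hj hk
    show 0 ≤ P.coroot' k m
    refine nonneg_of_mul_nonneg_right (a := bz P k k) ?_ (bz_self_pos P k)
    rw [bz_smul_coroot h k, h.co_add hk]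
    have e : ∀ x, 0 ≤ bz P x x * P.coroot' x m → 0 ≤ ∑ a, h.co x a * bz P a a * P.coroot' a m :=
      fun x hx => by rwa [← bz_smul_coroot h x]
    simp only [Pi.add_apply, add_mul, Finset.sum_add_distrib]
    exact add_nonneg (e i (mul_nonneg (bz_self_pos P i).le hi)) (e j (mul_nonneg (bz_self_pos P j).le hj))
  have hcov : ∀ i, i ∈ {i | 0 ≤ P.coroot' i m} ∨ P.reflectionPerm i i ∈ {i | 0 ≤ P.coroot' i m} := by
    intro i
    show 0 ≤ P.coroot' i m ∨ 0 ≤ P.coroot' (P.reflectionPerm i i) m
    have e : P.coroot' (P.reflectionPerm i i) m = -P.coroot' i m := by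
      show P.toLinearMap m (P.coroot _) = -P.toLinearMap m (P.coroot i)
      rw [show P.coroot (P.reflectionPerm i i) = -P.coroot i from root_neg P.flip i, map_neg]
    omega
  obtain ⟨g, hg, hsub⟩ := exists_smul_subset hS hcl hcov
  refine ⟨g⁻¹, inv_mem hg, fun i hi => ?_⟩
  have := hsub ⟨i, hi, rfl⟩
  rw [← coroot'_smul g i (g⁻¹ • m), smul_inv_smul]
  exact this

variable {Γ : Type*} [AddCommGroup Γ] [LinearOrder Γ] [IsOrderedAddMonoid Γ]

/-- A dominant map minus a conjugate is a positive combination of coroots. -/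
theorem exists_coroot_comb_of_dominant {S : Set ι} (hS : IsPosSys P S) (f : M →+ Γ)
    (hf : ∀ i ∈ S, 0 ≤ f (P.root i)) {g : P.Aut} (hg : g ∈ P.weylGroup) :
    ∃ c : ι → Γ, (∀ i, 0 ≤ c i) ∧ (∀ i, i ∉ S → c i = 0) ∧
      ∀ m : M, f m - f (g • m) = ∑ i, (P.coroot' i m) • c i := by
  classical
  have h := indec_simple hS
  rw [← h.gen_eq_weylGroup] at hg
  obtain ⟨l, hl, rfl⟩ := exists_word hg
  clear hg
  induction hn : l.length using Nat.strong_induction_on generalizing l with
  | _ n ih =>
    by_cases hmin : ∀ l' : List ι, (∀ a ∈ l', a ∈ indec P S) → word P l' = word P l → l.length ≤ l'.length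
    · by_cases hne : l = []
      · subst hne; exact ⟨0, fun _ => le_rfl, fun _ _ => rfl, fun m => by simp [word]⟩
      have hneg := h.minimal_last hl hne hmin
      obtain ⟨t, a, rfl⟩ : ∃ t a, l = t ++ [a] :=
        ⟨l.dropLast, l.getLast hne, (List.dropLast_append_getLast hne).symm⟩
      rw [List.getLast_append_singleton] at hneg
      have ha : a ∈ indec P S := hl a (by simp)
      have e : word P (t ++ [a]) = word P t * RootPairing.Equiv.reflection P a := by simp [word]
      rw [e, mul_smul, refl_smul_idx, smul_neg_idx, h.neg_mem_posOf_iff, not_not] at hneg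
      rw [posOf_indec hS] at hneg
      obtain ⟨c, hc, hcS, hcm⟩ := ih t.length (by simp at hn; omega) t (fun x hx => hl x (by simp [hx])) rfl
      refine ⟨c + Pi.single a (f (P.root (word P t • a))), fun i => ?_, fun i hi => ?_, fun m => ?_⟩
      · refine add_nonneg (hc i) ?_
        by_cases hia : i = a
        · subst hia; simpa using hf _ hneg
        · simp [hia]
      · have hia : i ≠ a := fun e => hi (by rw [e]; exact ha.1)
        simp [hcS i hi, hia]
      · simp only [Pi.add_apply, smul_add, Finset.sum_add_distrib, ← hcm, Pi.single_apply, smul_ite,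
          smul_zero, Finset.sum_ite_eq', Finset.mem_univ, if_true]
        rw [e, mul_smul, RootPairing.Equiv.reflection_smul, P.reflection_apply, smul_sub, map_sub,
          ← smul_comm (P.coroot' a m) (word P t), map_zsmul, smul_root]
        abel
    · push Not at hmin
      obtain ⟨l', hl', he, hlt⟩ := hmin
      obtain ⟨c, hc⟩ := ih l'.length (hn ▸ hlt) l' hl' rfl
      exact ⟨c, by rwa [← he]⟩

theorem weak_of_dominant {S : Set ι} (hS : IsPosSys P S) (f : M →+ Γ)
    (hf : ∀ i ∈ S, 0 ≤ f (P.root i)) {g : P.Aut} (hg : g ∈ P.weylGroup) {m : M}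
    (hm : ∀ i ∈ S, 0 ≤ P.coroot' i m) : f (g • m) ≤ f m := by
  obtain ⟨c, hc, hcS, h⟩ := exists_coroot_comb_of_dominant hS f hf hg
  rw [← sub_nonneg, h]
  refine Finset.sum_nonneg fun i _ => ?_
  by_cases hi : i ∈ S
  · exact zsmul_nonneg (hc i) (hm i hi)
  · simp [hcS i hi]

theorem dominant_eq_of_smul {S : Set ι} (hS : IsPosSys P S) (f : M →+ Γ)
    (hf : ∀ i ∈ S, 0 ≤ f (P.root i)) {g : P.Aut} (hg : g ∈ P.weylGroup)
    (hfg : ∀ i ∈ S, 0 ≤ f (g • P.root i)) (m : M) : f (g • m) = f m := by
  classical
  have h := indec_simple hS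
  rw [← h.gen_eq_weylGroup] at hg
  obtain ⟨l, hl, rfl⟩ := exists_word hg
  clear hg
  induction hn : l.length using Nat.strong_induction_on generalizing l m with
  | _ n ih =>
    by_cases hmin : ∀ l' : List ι, (∀ a ∈ l', a ∈ indec P S) → word P l' = word P l → l.length ≤ l'.length
    · by_cases hne : l = []
      · subst hne; simp [word]
      have hneg := h.minimal_last hl hne hmin
      obtain ⟨t, a, rfl⟩ : ∃ t a, l = t ++ [a] :=
        ⟨l.dropLast, l.getLast hne, (List.dropLast_append_getLast hne).symm⟩
      rw [List.getLast_append_singleton, posOf_indec hS] at hneg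
      have ha : a ∈ indec P S := hl a (by simp)
      have e : word P (t ++ [a]) = word P t * RootPairing.Equiv.reflection P a := by simp [word]
      have h2 : 0 ≤ f (word P (t ++ [a]) • P.root a) := hfg a ha.1
      have h3 := hf _ ((hS.cover _).resolve_left hneg)
      rw [root_neg, smul_root, map_neg, neg_nonneg] at h3
      have h0 : f (word P (t ++ [a]) • P.root a) = 0 := le_antisymm h3 h2
      have ht0 : f (word P t • P.root a) = 0 := by
        rw [e, mul_smul, RootPairing.Equiv.reflection_smul, P.reflection_apply_self, smul_neg, map_neg,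
          neg_eq_zero] at h0
        exact h0
      have heq : ∀ x, f (word P (t ++ [a]) • x) = f (word P t • x) := fun x => by
        rw [e, mul_smul, RootPairing.Equiv.reflection_smul, P.reflection_apply, smul_sub, map_sub,
          ← smul_comm (P.coroot' a x) (word P t), map_zsmul, ht0, smul_zero, sub_zero]
      rw [heq]
      exact ih t.length (by simp at hn; omega) m t (fun x hx => hl x (by simp [hx]))
        (fun i hi => by rw [← heq]; exact hfg i hi) rfl
    · push Not at hmin
      obtain ⟨l', hl', he, hlt⟩ := hmin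
      rw [← he]
      exact ih l'.length (hn ▸ hlt) m l' hl' (by rwa [he]) rfl

end Groth.Agent.RootData
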