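import Groth.Agent.RootData.Weyl
import Mathlib.Algebra.Polynomial.Roots
import Mathlib.LinearAlgebra.RootSystem.Reduced

/-!
# Existence of positive systems, supports of roots, reduced pairings
-/

set_option linter.unusedSectionVars false

namespace Groth.Agent.RootData

open Set Function Module RootD RootPairing

variable {ι R M N : Type*} [CommRing R] [IsDomain R] [CharZero R]
  [AddCommGroup M] [Module R M] [AddCommGroup N] [Module R N]
  {P : RootPairing ι R M N}

theorem isIndiv_of_reduced [P.IsReduced] (i : ι) : IsIndiv P i := by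
  intro j hj
  rw [two_smul_root] at hj
  have hni : ¬ LinearIndependent R ![P.root i, P.root j] := by
    rw [LinearIndependent.pair_iff]
    intro h
    have := h 1 (-2) (by rw [← hj, two_smul]; simp [two_smul])
    exact one_ne_zero this.1
  rcases IsReduced.eq_or_eq_neg i j hni with h | h
  · refine P.ne_zero j ?_
    rw [h, two_smul] at hj
    exact add_eq_left.mp hj
  · refine P.ne_zero j (zsmul_cancelM P (n := 3) (by norm_num) ?_)
    rw [smul_zero, show (3 : ℤ) = 2 + 1 by norm_num, add_smul, one_smul, hj, h, neg_add_cancel]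

variable [P.IsCrystallographic] [Fintype ι]

theorem mem_inSpan_iff {M N : Type*} [AddCommGroup M] [AddCommGroup N]
    {P : RootPairing ι ℤ M N} {T : Set ι} {x : M} :
    x ∈ Submodule.span ℤ (P.root '' T) ↔
      ∃ c : ι → ℤ, (∀ a, a ∉ T → c a = 0) ∧ comb P c = x := by
  classical
  constructor
  · intro hx
    induction hx using Submodule.span_induction with
    | mem y hy =>
      obtain ⟨a, ha, rfl⟩ := hy
      exact ⟨Pi.single a 1, fun b hb => Pi.single_eq_of_ne (fun e => hb (by rw [e]; exact ha)) _,
        by rw [comb_single, one_smul]⟩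
    | zero => exact ⟨0, by simp, by simp [comb]⟩
    | add y z _ _ hy hz =>
      obtain ⟨c, hc, rfl⟩ := hy; obtain ⟨d, hd, rfl⟩ := hz
      exact ⟨c + d, fun a ha => by simp [hc a ha, hd a ha], comb_add c d⟩
    | smul m y _ hy =>
      obtain ⟨c, hc, rfl⟩ := hy
      exact ⟨m • c, fun a ha => by simp [hc a ha], comb_smul m c⟩
  · rintro ⟨c, hc, rfl⟩
    refine sum_mem fun a _ => ?_
    by_cases ha : a ∈ T
    · exact Submodule.smul_mem _ _ (Submodule.subset_span ⟨a, ha, rfl⟩)
    · simp [hc a ha]

theorem Simple.mem_inSpan_iff {M N : Type*} [AddCommGroup M] [AddCommGroup N]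
    {P : RootPairing ι ℤ M N} {Δ T : Set ι} (hΔ : Simple P Δ) (hT : T ⊆ Δ) {k : ι} :
    k ∈ inSpan P T ↔ ∀ a, hΔ.co k a ≠ 0 → a ∈ T := by
  refine RootData.mem_inSpan_iff.trans ⟨?_, fun h => ⟨_, fun a ha => ?_, hΔ.co_spec k⟩⟩
  · rintro ⟨c, hc, he⟩ a ha
    rw [hΔ.co_unique (fun b hb => hc b fun h => hb (hT h)) he] at ha
    exact by_contra fun h => ha (hc a h)
  · exact by_contra fun hh => ha (h a hh)

theorem exists_posSys (P : RootPairing ι R M N) [P.IsCrystallographic] : ∃ S, IsPosSys P S := by
  classical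
  let e := Fintype.equivFin ι
  let p : ι → Polynomial ℤ := fun i => ∑ k, Polynomial.C (nn P i k) * Polynomial.X ^ (e k : ℕ)
  have hp : ∀ i, p i ≠ 0 := by
    intro i h
    have := congrArg (Polynomial.coeff · (e i : ℕ)) h
    simp only [p, Polynomial.finsetSum_coeff, Polynomial.coeff_C_mul, Polynomial.coeff_X_pow,
      Polynomial.coeff_zero] at this
    rw [Finset.sum_eq_single i] at this
    · simp at this
    · intro b _ hb
      rw [if_neg, mul_zero]
      exact fun he => hb (e.injective (Fin.ext he)).symm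
    · simp
  obtain ⟨t, ht⟩ : ∃ t : ℤ, t ∉ (Finset.univ.biUnion fun i => (p i).roots.toFinset : Finset ℤ) :=
    Infinite.exists_notMem_finset _
  have htne : ∀ i, (p i).eval t ≠ 0 := by
    intro i hh
    exact ht (Finset.mem_biUnion.mpr ⟨i, Finset.mem_univ _,
      Multiset.mem_toFinset.mpr ((Polynomial.mem_roots (hp i)).mpr hh)⟩)
  let f : ι → ℤ := fun i => ∑ k, nn P i k * t ^ (e k : ℕ)
  have hf : ∀ i, f i ≠ 0 := fun i => by
    simpa [f, p, Polynomial.eval_finsetSum] using htne i
  have hneg : ∀ i, f (P.reflectionPerm i i) = - f i := fun i => by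
    simp only [f, nn_neg_left, neg_mul, Finset.sum_neg_distrib]
  refine ⟨{i | 0 < f i}, isPosSys_of_closed ?_ (fun i => ?_) ?_⟩
  · intro i (hi : 0 < f i) (h : 0 < f _); rw [hneg] at h; omega
  · show 0 < f i ∨ 0 < f _
    rw [hneg]; have := hf i; omega
  · intro i j k (hi : 0 < f i) (hj : 0 < f j) hk
    show 0 < f k
    have : f k = f i + f j := by
      simp only [f, nn_add P hk, add_mul, Finset.sum_add_distrib]
    omega

theorem exists_simple (P : RootPairing ι R M N) [P.IsCrystallographic] : ∃ Δ, Simple P Δ := by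
  obtain ⟨S, hS⟩ := exists_posSys P
  exact ⟨_, indec_simple hS⟩

theorem base_height (b : P.Base) (i : ι) :
    b.height i = (Simple.of_base b).ht i := by
  classical
  have hs : ∑ j ∈ b.support, (Simple.of_base b).co i j • P.root j = P.root i := by
    conv_rhs => rw [← (Simple.of_base b).co_spec i]
    refine Finset.sum_subset (Finset.subset_univ _) fun j _ hj => ?_
    rw [(Simple.of_base b).co_supp (by simpa using hj), zero_smul]
  rw [RootPairing.Base.height_eq_sum hs.symm, Simple.ht]
  refine Finset.sum_subset (Finset.subset_univ _) fun j _ hj => ?_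
  exact (Simple.of_base b).co_supp (by simpa using hj)

theorem base_isPos_iff (b : P.Base) (i : ι) :
    b.IsPos i ↔ i ∈ posOf P (b.support : Set ι) := by
  rw [RootPairing.Base.isPos_iff, base_height]
  refine ⟨fun h => ?_, (Simple.of_base b).ht_pos⟩
  by_contra hn
  have h' := (Simple.of_base b).notMem_posOf_iff.mp hn
  have : (Simple.of_base b).ht i ≤ 0 := Finset.sum_nonpos fun a _ => h' a
  omega

theorem Simple.smul {Δ : Set ι} (hΔ : Simple P Δ) (g : P.Aut) : Simple P ((g • ·) '' Δ) := by
  have h : Simple P (indec P ((g • ·) '' posOf P Δ)) :=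
    indec_simple (smul_isPosSys g hΔ.posOf_isPosSys)
  rwa [← smul_indec, ← hΔ.eq_indec] at h

end Groth.Agent.RootData
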