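import Groth.Agent.RootData.Facts
import Mathlib.Algebra.Module.Torsion.Free
import Mathlib.LinearAlgebra.FreeModule.PID

/-!
# Integer functionals on roots
-/

set_option linter.unusedSectionVars false

namespace Groth.Agent.RootData

open Set Function Module RootD RootPairing

/-- A functional not vanishing on given non-zero vectors of a lattice. -/
theorem exists_hom_ne_zero {Q : Type*} [AddCommGroup Q] [Module.Free ℤ Q] [Module.Finite ℤ Q]
    (s : Finset Q) (hs : (0 : Q) ∉ s) : ∃ φ : Q →ₗ[ℤ] ℤ, ∀ x ∈ s, φ x ≠ 0 := by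
  classical
  let b := Module.finBasis ℤ Q
  let p : Q → Polynomial ℤ := fun x => ∑ q, Polynomial.C (b.repr x q) * Polynomial.X ^ (q : ℕ)
  obtain ⟨t, ht⟩ : ∃ t : ℤ, t ∉ (s.biUnion fun x => (p x).roots.toFinset : Finset ℤ) :=
    Infinite.exists_notMem_finset _
  refine ⟨∑ q : Fin (Module.finrank ℤ Q), t ^ (q : ℕ) • b.coord q, fun x hx h => ?_⟩
  have hp : p x ≠ 0 := by
    intro h0
    have : b.repr x = 0 := by
      ext q
      have := congrArg (Polynomial.coeff · (q : ℕ)) h0
      simp only [p, Polynomial.finsetSum_coeff, Polynomial.coeff_C_mul, Polynomial.coeff_X_pow,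
        Polynomial.coeff_zero] at this
      simpa [Fin.val_inj] using this
    rw [LinearEquiv.map_eq_zero_iff] at this
    exact hs (this ▸ hx)
  refine ht (Finset.mem_biUnion.mpr ⟨x, hx, Multiset.mem_toFinset.mpr
    ((Polynomial.mem_roots hp).mpr ?_)⟩)
  have : (p x).eval t = 0 := by
    rw [← h]; simp [p, Polynomial.eval_finsetSum, mul_comm]
  exact this

variable {ι M N : Type*} [AddCommGroup M] [AddCommGroup N] [Finite ι]

/-- A function on roots, additive on relations, vanishing exactly on the saturation of `T`. -/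
theorem exists_additive (P : RootPairing ι ℤ M N) (T : Set M)
    (_hT : T ⊆ Submodule.span ℤ (range P.root)) :
    ∃ f : Submodule.span ℤ (range P.root) →ₗ[ℤ] ℤ, ∀ k : ι,
      f ⟨P.root k, Submodule.subset_span (mem_range_self k)⟩ = 0 ↔
        ∃ n : ℕ, 0 < n ∧ n • P.root k ∈ Submodule.span ℤ T := by
  classical
  have := Fintype.ofFinite ι
  have := torsionFreeM P
  set L := Submodule.span ℤ (range P.root)
  have : Module.Finite ℤ L := Module.Finite.span_of_finite ℤ (finite_range _)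
  let L' : Submodule ℤ L := (Submodule.span ℤ T).comap L.subtype
  let Q := (L ⧸ L') ⧸ Submodule.torsion ℤ (L ⧸ L')
  have : Module.Free ℤ Q := Module.free_of_finite_type_torsion_free'
  let π : L →ₗ[ℤ] Q := (Submodule.torsion ℤ (L ⧸ L')).mkQ.comp L'.mkQ
  let v : ι → L := fun k => ⟨P.root k, Submodule.subset_span (mem_range_self k)⟩
  have hπ : ∀ x : L, π x = 0 ↔ ∃ n : ℤ, n ≠ 0 ∧ n • (x : M) ∈ Submodule.span ℤ T := by
    intro x
    show (Submodule.Quotient.mk (Submodule.Quotient.mk x) :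
      (L ⧸ L') ⧸ Submodule.torsion ℤ (L ⧸ L')) = 0 ↔ _
    rw [Submodule.Quotient.mk_eq_zero, Submodule.mem_torsion_iff]
    constructor
    · rintro ⟨⟨n, hn⟩, h⟩
      refine ⟨n, nonZeroDivisors.ne_zero hn, ?_⟩
      have h' : L'.mkQ (n • x) = 0 := by rw [map_smul]; exact h
      rwa [Submodule.mkQ_apply, Submodule.Quotient.mk_eq_zero] at h'
    · rintro ⟨n, hn, h⟩
      refine ⟨⟨n, mem_nonZeroDivisors_of_ne_zero hn⟩, ?_⟩
      show n • L'.mkQ x = 0
      rw [← map_smul, Submodule.mkQ_apply, Submodule.Quotient.mk_eq_zero]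
      exact h
  obtain ⟨φ, hφ⟩ := exists_hom_ne_zero ((Finset.univ.image fun k => π (v k)).erase 0) (by simp)
  refine ⟨φ.comp π, fun k => ?_⟩
  have hnat : (∃ n : ℤ, n ≠ 0 ∧ n • P.root k ∈ Submodule.span ℤ T) ↔
      ∃ n : ℕ, 0 < n ∧ n • P.root k ∈ Submodule.span ℤ T := by
    constructor
    · rintro ⟨n, hn, h⟩
      refine ⟨n.natAbs, Int.natAbs_pos.mpr hn, ?_⟩
      rw [← natCast_zsmul]
      rcases Int.natAbs_eq n with e | e
      · rwa [← e]
      · rw [← neg_neg ((n.natAbs : ℤ) • P.root k), ← neg_smul, ← e]; exact neg_mem h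
    · rintro ⟨n, hn, h⟩; exact ⟨n, by omega, by rwa [natCast_zsmul]⟩
  refine Iff.trans ?_ ((hπ (v k)).trans hnat)
  refine ⟨fun h => ?_, fun h => by rw [LinearMap.comp_apply, h, map_zero]⟩
  by_contra hne
  exact hφ _ (Finset.mem_erase.mpr ⟨hne, Finset.mem_image.mpr ⟨k, Finset.mem_univ _, rfl⟩⟩) h

/-- Positive systems refining a function on roots. -/
theorem isPosSys_refine (P : RootPairing ι ℤ M N)
    (f : Submodule.span ℤ (range P.root) →ₗ[ℤ] ℤ) (U : Set ι)
    (hd : ∀ i ∈ U, P.reflectionPerm i i ∉ U)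
    (hU : ∀ i, f ⟨P.root i, Submodule.subset_span (mem_range_self i)⟩ = 0 → i ∈ U ∨ P.reflectionPerm i i ∈ U)
    (hcl : ∀ i j k, i ∈ U → j ∈ U → f ⟨P.root i, Submodule.subset_span (mem_range_self i)⟩ = 0 →
      f ⟨P.root j, Submodule.subset_span (mem_range_self j)⟩ = 0 →
      P.root k = P.root i + P.root j → k ∈ U) :
    IsPosSys P {k | 0 < f ⟨P.root k, Submodule.subset_span (mem_range_self k)⟩ ∨
      f ⟨P.root k, Submodule.subset_span (mem_range_self k)⟩ = 0 ∧ k ∈ U} := by
  set F : ι → ℤ := fun k => f ⟨P.root k, Submodule.subset_span (mem_range_self k)⟩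
  have hneg : ∀ i, F (P.reflectionPerm i i) = -F i := by
    intro i; simp only [F]; rw [← map_neg]; congr 1; ext; simp
  refine isPosSys_of_closed ?_ (fun i => ?_) ?_
  · rintro i (hi | ⟨hi, hi'⟩) (h | ⟨h, h'⟩) <;> simp only [show ∀ x, f ⟨P.root x,
      Submodule.subset_span (mem_range_self x)⟩ = F x from fun _ => rfl, hneg] at * <;>
      first | omega | exact hd i hi' h'
  · show (0 < F i ∨ F i = 0 ∧ i ∈ U) ∨ (0 < F _ ∨ F _ = 0 ∧ _ ∈ U)
    rcases lt_trichotomy (F i) 0 with h | h | h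
    · exact .inr (.inl (by rw [hneg]; omega))
    · exact (hU i h).imp (fun h' => .inr ⟨h, h'⟩) fun h' => .inr ⟨by rw [hneg, h]; rfl, h'⟩
    · exact .inl (.inl h)
  · intro i j k hi hj hk
    have e : F k = F i + F j := by
      simp only [F]; rw [← map_add]; congr 1; ext; exact hk
    show 0 < F k ∨ F k = 0 ∧ k ∈ U
    rcases hi with hi | ⟨hi, hi'⟩ <;> rcases hj with hj | ⟨hj, hj'⟩
    · left; change 0 < F i at hi; change 0 < F j at hj; omega
    · left; change 0 < F i at hi; change F j = 0 at hj; omega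
    · left; change F i = 0 at hi; change 0 < F j at hj; omega
    · exact .inr ⟨by change F i = 0 at hi; change F j = 0 at hj; omega, hcl i j k hi' hj' hi hj hk⟩

end Groth.Agent.RootData
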