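import Groth.Agent.RootData.Facts

/-!
# Maps of bases of adjoint root data
-/

set_option linter.unusedSectionVars false

namespace Groth.Agent.RootData

open Set Function Module RootD

variable {ι M N ι' M' N' : Type*} [AddCommGroup M] [AddCommGroup N] [AddCommGroup M'] [AddCommGroup N']

theorem span_support_eq_top {P : RootPairing ι ℤ M N} (had : Submodule.span ℤ (range P.root) = ⊤)
    (b : P.Base) : Submodule.span ℤ (P.root '' (b.support : Set ι)) = ⊤ := by
  refine eq_top_iff.mpr (had ▸ Submodule.span_le.mpr ?_)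
  rintro _ ⟨k, rfl⟩
  have hle : AddSubmonoid.closure (P.root '' (b.support : Set ι)) ≤
      (Submodule.span ℤ (P.root '' (b.support : Set ι))).toAddSubmonoid :=
    AddSubmonoid.closure_le.mpr Submodule.subset_span
  rcases b.root_mem_or_neg_mem k with h | h
  · exact hle h
  · exact neg_mem_iff.mp (hle h)

theorem exists_map_root [Finite ι] [Finite ι'] {P : RootPairing ι ℤ M N} {P' : RootPairing ι' ℤ M' N'}
    [P.IsReduced] (b : P.Base) (had : Submodule.span ℤ (range P.root) = ⊤) (f : M →ₗ[ℤ] M')
    (φ : ι → ι') (hf : ∀ a ∈ b.support, f (P.root a) = P'.root (φ a))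
    (hp : ∀ a ∈ b.support, ∀ c ∈ b.support, P'.pairing (φ c) (φ a) = P.pairing c a) (k : ι) :
    ∃ k', f (P.root k) = P'.root k' := by
  have key : ∀ a ∈ b.support, ∀ x : M, f (P.reflection a x) = P'.reflection (φ a) (f x) := by
    intro a ha
    have := LinearMap.ext_on (span_support_eq_top had b)
      (f := f ∘ₗ (P.reflection a).toLinearMap) (g := (P'.reflection (φ a)).toLinearMap ∘ₗ f) ?_
    · exact fun x => LinearMap.congr_fun this x
    · rintro _ ⟨c, hc, rfl⟩
      show f (P.reflection a (P.root c)) = P'.reflection (φ a) (f (P.root c))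
      rw [P.reflection_apply_root, map_sub, map_smul, hf a ha, hf c hc, P'.reflection_apply_root,
        hp a ha c hc]
  refine b.induction_reflect (p := fun k => ∃ k', f (P.root k) = P'.root k') k (fun i hi => ?_)
    (fun i hi => ⟨φ i, hf i hi⟩) fun i j hi hj => ?_
  · obtain ⟨i', hi'⟩ := hi
    exact ⟨P'.reflectionPerm i' i', by rw [root_neg, root_neg, map_neg, hi']⟩
  · obtain ⟨i', hi'⟩ := hi
    exact ⟨P'.reflectionPerm (φ j) i', by rw [P.root_reflectionPerm, key j hj, hi', P'.root_reflectionPerm]⟩

end Groth.Agent.RootData
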