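import Groth.Agent.RootData.Facts

/-!
# Orthogonality, closed symmetric sets, components
-/

set_option linter.unusedSectionVars false

namespace Groth.Agent.RootData

open Set Function Module RootD RootPairing

variable {ι R M N : Type*} [CommRing R] [IsDomain R] [CharZero R]
  [AddCommGroup M] [Module R M] [AddCommGroup N] [Module R N]
  {P : RootPairing ι R M N} [P.IsCrystallographic] [Fintype ι]

theorem sum_not_mixed {R' : Set ι} (hc : IsClosedSub P R') (hs : IsSymmSub P R')
    (hc' : IsClosedSub P R'ᶜ) (hs' : IsSymmSub P R'ᶜ) {i j k : ι} (hi : i ∈ R') (hj : j ∉ R')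
    (h : P.root k = P.root i + P.root j) : False := by
  by_cases hk : k ∈ R'
  · exact hj (hc hk (hs hi) (by rw [root_neg, h]; abel))
  · exact hc' (show k ∈ R'ᶜ from hk) (hs' (show j ∈ R'ᶜ from hj)) (k := i)
      (by rw [root_neg, h]; abel) hi

theorem orth_of_mixed {R' : Set ι} (hc : IsClosedSub P R') (hs : IsSymmSub P R')
    (hc' : IsClosedSub P R'ᶜ) (hs' : IsSymmSub P R'ᶜ) {i j : ι} (hi : i ∈ R') (hj : j ∉ R') :
    P.IsOrthogonal i j := by
  rw [orth_iff]
  by_contra hne
  rcases lt_or_gt_of_ne hne with h | h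
  · obtain ⟨k, hk⟩ := exists_add P h (fun e => hj (e ▸ hs hi))
    exact sum_not_mixed hc hs hc' hs' hi hj hk
  · have hj' : P.reflectionPerm j j ∉ R' := hs' (show j ∈ R'ᶜ from hj)
    obtain ⟨k, hk⟩ := exists_add P (i := i) (j := P.reflectionPerm j j)
      (by rw [nn_neg_right]; omega) (fun e => hj' (e ▸ hs hi))
    exact sum_not_mixed hc hs hc' hs' hi hj' hk

theorem closedSymm_natSpan {R' T : Set ι} (hc : IsClosedSub P R') (hs : IsSymmSub P R')
    (hT : T ⊆ R') {k : ι} (h : P.root k ∈ natSpan P T ∨ -P.root k ∈ natSpan P T) : k ∈ R' := by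
  rcases h with h | h
  · exact closed_iff_natSpan.mp hc k (natSpan_mono hT h)
  · rw [← root_neg] at h
    have := hs (closed_iff_natSpan.mp hc _ (natSpan_mono hT h))
    rwa [neg_neg_idx] at this

/-- The relation of non-orthogonality. -/
abbrev Adj (P : RootPairing ι R M N) : ι → ι → Prop := fun a b => ¬ P.IsOrthogonal a b

theorem adj_symm {a b : ι} (h : Adj P a b) : Adj P b a := fun h' => h h'.symm

theorem reach_symm {a b : ι} (h : Relation.ReflTransGen (Adj P) a b) :
    Relation.ReflTransGen (Adj P) b a := by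
  induction h with
  | refl => exact .refl
  | tail _ h2 ih => exact .head (adj_symm h2) ih

theorem adj_neg (j : ι) : Adj P j (P.reflectionPerm j j) := by
  show ¬ _
  rw [orth_iff, nn_neg_right, nn_self]; norm_num

theorem adj_of_add {i j k : ι} (h : P.root k = P.root i + P.root j) : Adj P i k ∨ Adj P j k := by
  by_contra hh
  simp only [not_or, not_not, orth_iff] at hh
  have := nn_add P h k
  rw [nn_self] at this; omega

variable {Δ : Set ι} (hΔ : Simple P Δ)

include hΔ in
theorem Simple.adj_simple (k : ι) : ∃ a ∈ Δ, Adj P k a := by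
  by_contra h
  push Not at h
  have h2 := hΔ.nn_eq k k
  rw [nn_self, Finset.sum_eq_zero] at h2
  · norm_num at h2
  intro a _
  by_cases ha : a ∈ Δ
  · have := h a ha
    rw [orth_iff] at this
    rw [nn_eq_zero_symm P this, mul_zero]
  · rw [hΔ.co_supp ha, zero_mul]

include hΔ in
theorem Simple.supp_split {T : Set ι} (hT : T ⊆ Δ)
    (horth : ∀ i ∈ T, ∀ j ∈ Δ \ T, P.IsOrthogonal i j) (k : ι) :
    (∀ a, hΔ.co k a ≠ 0 → a ∈ T) ∨ (∀ a, hΔ.co k a ≠ 0 → a ∈ Δ \ T) := by
  classical
  have step : ∀ c ∈ Δ, ∀ j, ((∀ a, hΔ.co j a ≠ 0 → a ∈ T) ∨ (∀ a, hΔ.co j a ≠ 0 → a ∈ Δ \ T)) →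
      ((∀ a, hΔ.co (P.reflectionPerm c j) a ≠ 0 → a ∈ T) ∨
        (∀ a, hΔ.co (P.reflectionPerm c j) a ≠ 0 → a ∈ Δ \ T)) := by
    intro c hc j h
    by_cases hn : nn P j c = 0
    · have : hΔ.co (P.reflectionPerm c j) = hΔ.co j := by rw [hΔ.co_refl hc, hn]; simp
      rwa [this]
    have side : ∀ U : Set ι, (∀ a, hΔ.co j a ≠ 0 → a ∈ U) → c ∈ U →
        ∀ a, hΔ.co (P.reflectionPerm c j) a ≠ 0 → a ∈ U := by
      intro U hU hcU a ha
      by_cases hac : a = c
      · rwa [hac]
      · rw [hΔ.co_refl hc] at ha; exact hU a (by simpa [hac] using ha)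
    obtain ⟨b, hb, hbc⟩ : ∃ b, hΔ.co j b ≠ 0 ∧ nn P b c ≠ 0 := by
      by_contra hh; push Not at hh
      refine hn ((hΔ.nn_eq j c).trans (Finset.sum_eq_zero fun b _ => ?_))
      by_cases hb : hΔ.co j b = 0
      · rw [hb, zero_mul]
      · rw [hh b hb, mul_zero]
    rcases h with h | h
    · refine .inl (side T h (by_contra fun hcT => hbc ?_))
      exact (orth_iff P).mp (horth b (h b hb) c ⟨hc, hcT⟩)
    · refine .inr (side (Δ \ T) h ⟨hc, fun hcT => hbc ?_⟩)
      exact nn_eq_zero_symm P ((orth_iff P).mp (horth c hcT b (h b hb)))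
  have key : ∀ j ∈ posOf P Δ,
      (∀ a, hΔ.co j a ≠ 0 → a ∈ T) ∨ (∀ a, hΔ.co j a ≠ 0 → a ∈ Δ \ T) := by
    intro j hj
    obtain ⟨g, hg, a, ha, -, hga⟩ := hΔ.exists_gen_smul (Δ' := Δ) hj fun a ha =>
      by_contra fun h => ha.ne' (hΔ.co_supp h)
    obtain ⟨l, hl, rfl⟩ := exists_word hg
    clear hg
    have hw : (∀ x, hΔ.co (word P l • a) x ≠ 0 → x ∈ T) ∨
        (∀ x, hΔ.co (word P l • a) x ≠ 0 → x ∈ Δ \ T) := by
      clear hga
      induction l with
      | nil =>
        have key : ∀ x, hΔ.co a x ≠ 0 → x = a := by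
          intro x hx; rw [hΔ.co_simple ha] at hx
          by_contra hh; exact hx (by simp [hh])
        by_cases haT : a ∈ T
        · exact .inl fun x hx => key x (by simpa [word] using hx) ▸ haT
        · exact .inr fun x hx => key x (by simpa [word] using hx) ▸ ⟨ha, haT⟩
      | cons c t ih =>
        rw [word_cons, mul_smul, refl_smul_idx]
        exact step c (hl c List.mem_cons_self) _ (ih fun x hx => hl x (List.mem_cons_of_mem _ hx))
    rcases hga with rfl | h2
    · exact hw
    · rw [hΔ.co_zsmul h2]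
      exact hw.imp (fun h x hx => h x fun e => hx (by simp [e])) (fun h x hx => h x fun e => hx (by simp [e]))
  by_cases hk : k ∈ posOf P Δ
  · exact key k hk
  · have := key _ (hΔ.neg_mem_posOf_iff.mpr hk)
    simpa [hΔ.co_neg] using this

end Groth.Agent.RootData
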