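import Groth.Agent.RootData.Ranks
import Groth.Agent.RootData.Lengths

/-!
# Morphisms of root data with radicial exponents
-/

set_option linter.unusedSectionVars false

namespace Groth.Agent.RootData

open Set Function Module RootD

variable {ι M N ι' M' N' : Type*} [AddCommGroup M] [AddCommGroup N] [AddCommGroup M'] [AddCommGroup N']

/-- A map of weight lattices with transpose carrying roots to multiples of roots. -/
structure PMor (P : RootPairing ι ℤ M N) (P' : RootPairing ι' ℤ M' N') (f : M' →ₗ[ℤ] M)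
    (g : N →ₗ[ℤ] N') (u : ι ≃ ι') (q : ι → ℕ) : Prop where
  adj : ∀ (m' : M') (n : N), P.toLinearMap (f m') n = P'.toLinearMap m' (g n)
  pos : ∀ i, 0 < q i
  root : ∀ i : ι, f (P'.root (u i)) = (q i : ℤ) • P.root i
  coroot : ∀ i : ι, g (P.coroot i) = (q i : ℤ) • P'.coroot (u i)

namespace PMor

variable {P : RootPairing ι ℤ M N} {P' : RootPairing ι' ℤ M' N'} {f : M' →ₗ[ℤ] M}
    {g : N →ₗ[ℤ] N'} {u : ι ≃ ι'} {q : ι → ℕ} (h : PMor P P' f g u q)
    [Finite ι] [Finite ι']

include h

theorem pairing_eq (a b : ι) :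
    (q b : ℤ) * P'.pairing (u a) (u b) = (q a : ℤ) * P.pairing a b := by
  have e := h.adj (P'.root (u a)) (P.coroot b)
  rw [h.root, h.coroot, map_smul, map_smul, LinearMap.smul_apply, smul_eq_mul, smul_eq_mul,
    P.root_coroot_eq_pairing, P'.root_coroot_eq_pairing] at e
  exact e.symm

theorem injOn_span {x : M'} (hx : x ∈ Submodule.span ℤ (range P'.root)) (h0 : f x = 0) : x = 0 := by
  refine eq_zero_of_span_coroot' P' hx fun i' => ?_
  obtain ⟨i, rfl⟩ := u.surjective i'
  have e := h.adj x (P.coroot i)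
  rw [h0, map_zero, LinearMap.zero_apply, h.coroot, map_smul, smul_eq_mul, eq_comm, mul_eq_zero] at e
  exact e.resolve_left (by exact_mod_cast (h.pos i).ne')

theorem refl_apply [P.IsReduced] (i j : ι) :
    q (P.reflectionPerm i j) = q j ∧
      u (P.reflectionPerm i j) = P'.reflectionPerm (u i) (u j) := by
  have := Fintype.ofFinite ι
  obtain ⟨l, hl⟩ := u.surjective (P'.reflectionPerm (u i) (u j))
  have e1 : (q l : ℤ) • P.root l = (q j : ℤ) • P.root (P.reflectionPerm i j) := by
    rw [← h.root l, hl, P'.root_reflectionPerm, P'.reflection_apply_root, map_sub, map_smul, h.root,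
      h.root, P.root_reflectionPerm, P.reflection_apply_root, smul_sub, smul_smul, smul_smul,
      mul_comm _ (q i : ℤ), h.pairing_eq j i]
  set r := P.reflectionPerm i j
  have hlpos : (0 : ℤ) < q l := by exact_mod_cast h.pos l
  have hjpos : (0 : ℤ) < q j := by exact_mod_cast h.pos j
  have key : ∀ c : ℤ, P.root r = c • P.root l → (q l : ℤ) = (q j : ℤ) * c := by
    intro c hc
    rw [hc, smul_smul] at e1
    exact zsmul_root_inj e1
  obtain rfl : l = r := by
    rcases proportional_cases P (n := (q j : ℤ)) hjpos.ne' e1 with e | e | e | e | e | e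
    · exact (P.root.injective e).symm
    · have := key (-1) (by rw [e, neg_one_smul]); omega
    · exact absurd (by rw [two_smul_root, e]) (isIndiv_of_reduced (P := P) r l)
    · exact absurd (by rw [two_smul_root, root_neg, e]; simp)
        (isIndiv_of_reduced (P := P) r (P.reflectionPerm l l))
    · exact absurd (by rw [two_smul_root, e]) (isIndiv_of_reduced (P := P) l r)
    · exact absurd (by rw [two_smul_root, root_neg, e]; simp)
        (isIndiv_of_reduced (P := P) l (P.reflectionPerm r r))
  exact ⟨by exact_mod_cast zsmul_root_inj e1, hl⟩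

theorem image_isPosSys [P.IsReduced] {S : Set ι} (hS : IsPosSys P S) : IsPosSys P' (u '' S) := by
  have := Fintype.ofFinite ι
  refine ⟨?_, fun i' => ?_, fun k' n hn hk => ?_⟩
  · rintro _ ⟨i, hi, rfl⟩ hh
    rw [← (h.refl_apply i i).2, u.injective.mem_set_image] at hh
    exact hS.disjoint hi hh
  · obtain ⟨i, rfl⟩ := u.surjective i'
    rw [← (h.refl_apply i i).2, u.injective.mem_set_image, u.injective.mem_set_image]
    exact hS.cover i
  · obtain ⟨k, rfl⟩ := u.surjective k'
    rw [u.injective.mem_set_image]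
    refine hS.sat (n * q k) (Nat.mul_pos hn (h.pos k)) ?_
    have hle : natSpan P' (u '' S) ≤ (natSpan P S).comap f.toAddMonoidHom := by
      refine AddSubmonoid.closure_le.mpr ?_
      rintro _ ⟨_, ⟨i, hi, rfl⟩, rfl⟩
      show f (P'.root (u i)) ∈ natSpan P S
      rw [h.root, natCast_zsmul]
      exact nsmul_mem (root_mem_natSpan hi) _
    have := hle hk
    rw [AddSubmonoid.mem_comap] at this
    simpa [h.root, natCast_zsmul, mul_smul] using this

theorem preimage_isPosSys [P.IsReduced] {S : Set ι} (hS : IsPosSys P' (u '' S)) : IsPosSys P S := by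
  classical
  have := Fintype.ofFinite ι
  refine ⟨fun i hi hh => ?_, fun i => ?_, fun k n hn hk => ?_⟩
  · exact hS.disjoint (Set.mem_image_of_mem u hi)
      (by rw [← (PMor.refl_apply h i i).2]; exact Set.mem_image_of_mem u hh)
  · have := hS.cover (u i)
    rwa [← (h.refl_apply i i).2, u.injective.mem_set_image, u.injective.mem_set_image] at this
  · obtain ⟨c, hc, he⟩ := natSpan_iff_coef.mp hk
    set L := ∏ a, q a
    have hd : ∀ a, q a * ∏ b ∈ Finset.univ.erase a, q b = L := fun a =>
      Finset.mul_prod_erase _ _ (Finset.mem_univ a)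
    have hmem : ∑ a, (c a * ∏ b ∈ Finset.univ.erase a, q b) • P'.root (u a) ∈ natSpan P' (u '' S) := by
      refine sum_mem fun a _ => ?_
      by_cases ha : a ∈ S
      · exact nsmul_mem (root_mem_natSpan (Set.mem_image_of_mem u ha)) _
      · simp [hc a ha]
    have hpos : 0 < n * ∏ b ∈ Finset.univ.erase k, q b :=
      Nat.mul_pos hn (Finset.prod_pos fun b _ => h.pos b)
    have heq : (n * ∏ b ∈ Finset.univ.erase k, q b) • P'.root (u k) =
        ∑ a, (c a * ∏ b ∈ Finset.univ.erase a, q b) • P'.root (u a) := by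
      refine sub_eq_zero.mp (h.injOn_span (sub_mem (Submodule.smul_of_tower_mem _ _
        (Submodule.subset_span (mem_range_self _))) (sum_mem fun a _ => Submodule.smul_of_tower_mem _ _
        (Submodule.subset_span (mem_range_self _)))) ?_)
      simp only [map_sub, map_sum, map_nsmul, h.root, natCast_zsmul, smul_smul]
      rw [sub_eq_zero]
      calc (n * (∏ b ∈ Finset.univ.erase k, q b) * q k) • P.root k = L • n • P.root k := by
            rw [smul_smul, ← hd k]; congr 1; ring
        _ = L • ∑ a, c a • P.root a := by rw [he]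
        _ = _ := by
            rw [Finset.smul_sum]
            refine Finset.sum_congr rfl fun a _ => ?_
            rw [smul_smul, ← hd a]; congr 1; ring
    have := hS.sat _ hpos (heq ▸ hmem)
    rwa [u.injective.mem_set_image] at this

end PMor

theorem Simple.mem_iff_refl [Fintype ι] {P : RootPairing ι ℤ M N} [P.IsReduced] {Δ : Set ι}
    (hΔ : Simple P Δ) {a : ι} :
    a ∈ Δ ↔ a ∈ posOf P Δ ∧ ∀ k ∈ posOf P Δ, k ≠ a → P.reflectionPerm a k ∈ posOf P Δ := by
  classical
  refine ⟨fun ha => ⟨hΔ.subset_posOf ha, fun k hk hne =>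
    (hΔ.refl_pos_ne isIndiv_of_reduced ha hk hne).1⟩, fun ⟨ha, hrefl⟩ => ?_⟩
  by_contra hni
  obtain ⟨b, hb, -, hnn⟩ := hΔ.exists_simple_pos ha
  have hba : b ≠ a := fun e => hni (e ▸ hb)
  have hp := hrefl b (hΔ.subset_posOf hb) hba
  obtain ⟨c, hcb, hc⟩ : ∃ c, c ≠ b ∧ hΔ.co a c ≠ 0 := by
    by_contra hh; push Not at hh
    exact hni (hΔ.eq_of_pos_multiple hb ha (isIndiv_of_reduced a) hh ▸ hb)
  have hca : 0 < hΔ.co a c := lt_of_le_of_ne (hΔ.mem_posOf_iff.mp ha c) (Ne.symm hc)
  have hnn' : 0 < nn P b a := by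
    by_contra hh
    exact absurd ((nn_nonpos_comm P).mp (not_lt.mp hh)) (by omega)
  have e : hΔ.co (P.reflectionPerm a b) = hΔ.co b - nn P b a • hΔ.co a :=
    hΔ.co_unique (fun x hx => by simp [hΔ.co_supp hx])
      (by rw [comb_sub, comb_smul, hΔ.co_spec, hΔ.co_spec, refl_root])
  have := hΔ.mem_posOf_iff.mp hp c
  rw [e, hΔ.co_simple hb] at this
  simp [hcb] at this
  have := mul_pos hnn' hca
  omega

end Groth.Agent.RootData
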