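import Groth.Agent.RootData.Basic
import Mathlib.LinearAlgebra.QuadraticForm.Basic

/-!
# Quadratic forms invariant under reflections
-/

set_option linter.unusedSectionVars false

namespace Groth.Agent.RootData

open Set Function Module

variable {ι R M N : Type*} [CommRing R] [IsDomain R] [CharZero R]
  [AddCommGroup M] [Module R M] [AddCommGroup N] [Module R N]

theorem quad_refl (P : RootPairing ι R M N) (Q : QuadraticMap R N R) (j : ι) (y : N) :
    Q (P.coreflection j y) = Q y +
      P.root' j y * (P.root' j y * Q (P.coroot j) - QuadraticMap.polar Q y (P.coroot j)) := by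
  rw [P.coreflection_apply, sub_eq_add_neg, ← neg_smul, QuadraticMap.map_add (Q : QuadraticMap R N R),
    QuadraticMap.map_smul, QuadraticMap.polar_smul_right, smul_eq_mul, smul_eq_mul]
  ring

/-- Invariance on a submodule containing the coroot. -/
theorem quad_inv_iff (P : RootPairing ι R M N) (Q : QuadraticMap R N R) (j : ι) (D : Submodule R N)
    (hj : P.coroot j ∈ D) :
    (∀ y ∈ D, Q (P.coreflection j y) = Q y) ↔
      ∀ y ∈ D, QuadraticMap.polar Q y (P.coroot j) = P.root' j y * Q (P.coroot j) := by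
  refine ⟨fun h => ?_, fun h y hy => by rw [quad_refl, h y hy, sub_self, mul_zero, add_zero]⟩
  have h2 : P.root' j (P.coroot j) = 2 := P.root_coroot_two j
  have hc : ∀ y ∈ D, P.root' j y ≠ 0 →
      QuadraticMap.polar Q y (P.coroot j) = P.root' j y * Q (P.coroot j) := by
    intro y hy hne
    have := h y hy
    rw [quad_refl, add_eq_left, mul_eq_zero, sub_eq_zero] at this
    exact (this.resolve_left hne).symm
  intro y hy
  by_cases hne : P.root' j y = 0
  · have e1 := hc (y + P.coroot j) (add_mem hy hj) (by rw [map_add, hne, h2, zero_add]; exact two_ne_zero)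
    have e2 := hc _ hj (by rw [h2]; exact two_ne_zero)
    rw [QuadraticMap.polar_add_left, map_add, e2] at e1
    linear_combination e1
  · exact hc y hy hne

theorem quad_inv_iff_top (P : RootPairing ι R M N) (Q : QuadraticMap R N R) (j : ι) :
    (∀ y, Q (P.coreflection j y) = Q y) ↔
      ∀ y, QuadraticMap.polar Q y (P.coroot j) = P.root' j y * Q (P.coroot j) := by
  simpa using quad_inv_iff P Q j ⊤ Submodule.mem_top

theorem polar_zero_of_mem_span (P : RootPairing ι R M N) (Q : QuadraticMap R N R) {y : N}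
    (h : ∀ i, QuadraticMap.polar Q y (P.coroot i) = 0) {d : N}
    (hd : d ∈ Submodule.span R (range P.coroot)) : QuadraticMap.polar Q y d = 0 := by
  induction hd using Submodule.span_induction with
  | mem x hx => obtain ⟨i, rfl⟩ := hx; exact h i
  | zero => simp
  | add a b _ _ ha hb => rw [QuadraticMap.polar_add_right, ha, hb, add_zero]
  | smul c a _ ha => rw [QuadraticMap.polar_smul_right, ha, smul_zero]

/-- A bilinear form agreeing with `Q` on coroots gives, with a projection, an invariant form. -/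
theorem quad_extend (P : RootPairing ι R M N) (D Y₀ : Submodule R N) (hD : ∀ i, P.coroot i ∈ D)
    (hc : IsCompl Y₀ D) (Qd : QuadraticMap R N R)
    (hQd : ∀ i, ∀ y ∈ D, Qd (P.coreflection i y) = Qd y) (Φ : N →ₗ[R] N →ₗ[R] R)
    (hΦ : ∀ y₀ ∈ Y₀, ∀ i, Φ y₀ (P.coroot i) = P.root' i y₀ * Qd (P.coroot i)) :
    ∃ Q : QuadraticMap R N R, (∀ i y, Q (P.coreflection i y) = Q y) ∧ ∀ y ∈ D, Q y = Qd y := by
  let p₀ : N →ₗ[R] N := Y₀.projection D hc
  let pD : N →ₗ[R] N := LinearMap.id - p₀
  have hp₀D : ∀ d ∈ D, p₀ d = 0 := fun d hd =>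
    Submodule.projection_apply_eq_zero_iff hc |>.mpr hd
  have hp₀ : ∀ y, p₀ y ∈ Y₀ := fun y => Submodule.projection_apply_mem hc y
  have hpD : ∀ y, pD y ∈ D := fun y => by
    rw [← Submodule.projection_apply_eq_zero_iff hc]
    show p₀ (y - p₀ y) = 0
    rw [map_sub, show p₀ (p₀ y) = p₀ y from Submodule.projection_apply_left hc ⟨_, hp₀ y⟩, sub_self]
  refine ⟨Qd.comp pD + LinearMap.BilinMap.toQuadraticMap (Φ.compl₁₂ p₀ pD), fun i => ?_, fun y hy => ?_⟩
  · refine (quad_inv_iff_top P _ i).mpr fun y => ?_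
    have hz := hp₀D _ (hD i)
    have hid : pD (P.coroot i) = P.coroot i := by simp [pD, hz]
    have h1 := (quad_inv_iff P Qd i D (hD i)).mp (hQd i) (pD y) (hpD y)
    have h2 := hΦ (p₀ y) (hp₀ y) i
    have hy : P.root' i y = P.root' i (p₀ y) + P.root' i (pD y) := by simp [pD]
    simp only [QuadraticMap.polar, QuadraticMap.add_apply, QuadraticMap.comp_apply,
      LinearMap.BilinMap.toQuadraticMap_apply, LinearMap.compl₁₂_apply, map_add, hz, hid,
      LinearMap.add_apply, map_zero, LinearMap.zero_apply] at h1 ⊢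
    linear_combination h1 + h2 - Qd (P.coroot i) * hy
  · have : pD y = y := by simp [pD, hp₀D y hy]
    simp [this, hp₀D y hy]

end Groth.Agent.RootData
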