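import Groth.Agent.RootData.Coroot
import Mathlib.LinearAlgebra.FreeModule.Finite.Matrix
import Mathlib.GroupTheory.FiniteAbelian.Basic
import Mathlib.LinearAlgebra.Dimension.Torsion.Finite

/-!
# Ranks of the radical and the coradical lattices
-/

set_option linter.unusedSectionVars false

namespace Groth.Agent.RootData

open Set Function Module RootD

variable {ι M N : Type*} [AddCommGroup M] [AddCommGroup N] [Finite ι]

theorem eq_zero_of_span_coroot' (P : RootPairing ι ℤ M N) {x : M}
    (hx : x ∈ Submodule.span ℤ (range P.root)) (h : ∀ i, P.coroot' i x = 0) : x = 0 := by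
  have := Fintype.ofFinite ι
  obtain ⟨c, rfl⟩ := (Submodule.mem_span_range_iff_exists_fun ℤ).mp hx
  refine (comb_zero_iff P c).mpr fun k => ?_
  have := h k
  rw [map_sum] at this
  refine Eq.trans (Finset.sum_congr rfl fun a _ => ?_) this
  rw [map_smul, smul_eq_mul, P.root_coroot'_eq_pairing, ← nn_cast P a k, Int.cast_id]

theorem finrank_coradical_add (P : RootPairing ι ℤ M N) [Module.Finite ℤ M] [Module.Finite ℤ N] :
    finrank ℤ (⨅ i : ι, LinearMap.ker (P.coroot' i) : Submodule ℤ M) +
      finrank ℤ (Submodule.span ℤ (range P.root)) = finrank ℤ M := by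
  have := Fintype.ofFinite ι
  have := torsionFreeM P
  have := torsionFreeN P
  set L := Submodule.span ℤ (range P.coroot)
  have : Module.Finite ℤ L := Module.Finite.span_of_finite ℤ (finite_range _)
  have : Module.Free ℤ L := Module.free_of_finite_type_torsion_free'
  let φ : M →ₗ[ℤ] Module.Dual ℤ L := L.subtype.dualMap ∘ₗ P.toLinearMap
  have hker : LinearMap.ker φ = ⨅ i : ι, LinearMap.ker (P.coroot' i) := by
    ext x
    simp only [LinearMap.mem_ker, Submodule.mem_iInf]
    constructor
    · intro h i
      exact LinearMap.congr_fun h ⟨P.coroot i, Submodule.subset_span (mem_range_self i)⟩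
    · intro h
      ext ⟨y, hy⟩
      show P.toLinearMap x y = 0
      induction hy using Submodule.span_induction with
      | mem z hz => obtain ⟨i, rfl⟩ := hz; exact h i
      | zero => simp
      | add a b _ _ ha hb => simp [ha, hb]
      | smul c a _ ha => simp [ha]
  have h1 : finrank ℤ (LinearMap.range φ) + finrank ℤ (LinearMap.ker φ) = finrank ℤ M := by
    rw [← (φ.quotKerEquivRange).finrank_eq, Submodule.finrank_quotient_add_finrank]
  have h2 : finrank ℤ (LinearMap.range φ) ≤ finrank ℤ (Submodule.span ℤ (range P.root)) := by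
    refine (Submodule.finrank_le _).trans ?_
    show finrank ℤ (L →ₗ[ℤ] ℤ) ≤ _
    rw [Module.finrank_linearMap_self]
    exact (P.finrank_corootSpan_eq').le
  have h3 : finrank ℤ (Submodule.span ℤ (range P.root)) ≤ finrank ℤ (LinearMap.range φ) := by
    refine LinearMap.finrank_le_finrank_of_injective
      (f := φ.rangeRestrict ∘ₗ (Submodule.span ℤ (range P.root)).subtype) ?_
    intro x y hxy
    apply Subtype.ext
    rw [← sub_eq_zero]
    refine eq_zero_of_span_coroot' P (sub_mem x.2 y.2) fun i => ?_
    have h : φ x.1 = φ y.1 := congrArg Subtype.val hxy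
    rw [map_sub, sub_eq_zero]
    exact LinearMap.congr_fun h ⟨P.coroot i, Submodule.subset_span (mem_range_self i)⟩
  rw [← hker]; omega

theorem finrank_eq_flip (P : RootPairing ι ℤ M N) [Module.Finite ℤ M] [Module.Finite ℤ N] :
    finrank ℤ N = finrank ℤ M := by
  have := torsionFreeM P
  have : Module.Free ℤ M := Module.free_of_finite_type_torsion_free'
  rw [P.flip.toPerfPair.finrank_eq]
  exact Module.finrank_linearMap_self ℤ ℤ M

theorem finrank_radical_add (P : RootPairing ι ℤ M N) [Module.Finite ℤ M] [Module.Finite ℤ N] :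
    finrank ℤ (⨅ i : ι, LinearMap.ker (P.root' i) : Submodule ℤ N) +
      finrank ℤ (Submodule.span ℤ (range P.root)) = finrank ℤ M := by
  have := Fintype.ofFinite ι
  have h := finrank_coradical_add P.flip
  rw [finrank_eq_flip P, show finrank ℤ (Submodule.span ℤ (range P.flip.root)) =
    finrank ℤ (Submodule.span ℤ (range P.root)) from P.finrank_corootSpan_eq'] at h
  exact h

theorem semisimple_iff (P : RootPairing ι ℤ M N) [Module.Finite ℤ M] [Module.Finite ℤ N] :
    finrank ℤ (Submodule.span ℤ (range P.root)) = finrank ℤ M ↔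
      (⨅ i : ι, LinearMap.ker (P.coroot' i) : Submodule ℤ M) = ⊥ := by
  have := torsionFreeM P
  have h := finrank_coradical_add P
  refine ⟨fun e => Submodule.finrank_eq_zero.mp (by omega), fun e => ?_⟩
  rw [e, finrank_bot] at h; omega

theorem finite_quotient_of_finrank [Module.Finite ℤ M] (S : Submodule ℤ M)
    (h : finrank ℤ S = finrank ℤ M) : Finite (M ⧸ S) := by
  have := Submodule.finrank_quotient_add_finrank (R := ℤ) S
  exact Module.finite_of_fg_torsion _ (Module.finrank_eq_zero_iff_isTorsion.mp (by omega))

end Groth.Agent.RootData
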