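import Groth.Agent.RootData.Facts
import Groth.Agent.RootData.Functional

/-!
# Saturated sets of roots and systems of simple roots
-/

set_option linter.unusedSectionVars false

namespace Groth.Agent.RootData

open Set Function Module RootD

variable {ι M N : Type*} [AddCommGroup M] [AddCommGroup N] [Fintype ι]
  {P : RootPairing ι ℤ M N}

/-- The value on a root of a functional on the root span. -/
abbrev ev (P : RootPairing ι ℤ M N) (f : Submodule.span ℤ (range P.root) →ₗ[ℤ] ℤ) (k : ι) : ℤ :=
  f ⟨P.root k, Submodule.subset_span (mem_range_self k)⟩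

theorem Simple.ev_eq {Δ : Set ι} (h : Simple P Δ) (f : Submodule.span ℤ (range P.root) →ₗ[ℤ] ℤ)
    (k : ι) : ev P f k = ∑ a, h.co k a * ev P f a := by
  have e : (⟨P.root k, Submodule.subset_span (mem_range_self k)⟩ : Submodule.span ℤ (range P.root)) =
      ∑ a, h.co k a • ⟨P.root a, Submodule.subset_span (mem_range_self a)⟩ := by
    apply Subtype.ext
    rw [AddSubmonoidClass.coe_finsetSum]
    exact (h.co_spec k).symm
  show f _ = _
  rw [e, map_sum]
  simp only [map_smul, smul_eq_mul]

theorem Simple.zero_supp {Δ : Set ι} (h : Simple P Δ) (f : Submodule.span ℤ (range P.root) →ₗ[ℤ] ℤ)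
    (hpos : ∀ k ∈ posOf P Δ, 0 ≤ ev P f k) {k : ι} (hk : ev P f k = 0) {a : ι}
    (ha : h.co k a ≠ 0) : ev P f a = 0 := by
  classical
  have haΔ : a ∈ Δ := by_contra fun hh => ha (h.co_supp hh)
  rw [h.ev_eq f k] at hk
  have hz : ∀ b, h.co k b * ev P f b = 0 := by
    rcases h.co_sign k with hs | hs
    · intro b
      refine (Finset.sum_eq_zero_iff_of_nonneg fun b _ => ?_).mp hk b (Finset.mem_univ b)
      by_cases hb : b ∈ Δ
      · exact mul_nonneg (hs b) (hpos b (h.subset_posOf hb))
      · simp [h.co_supp hb]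
    · intro b
      refine (Finset.sum_eq_zero_iff_of_nonpos fun b _ => ?_).mp hk b (Finset.mem_univ b)
      by_cases hb : b ∈ Δ
      · exact mul_nonpos_of_nonpos_of_nonneg (hs b) (hpos b (h.subset_posOf hb))
      · simp [h.co_supp hb]
  exact (mul_eq_zero.mp (hz a)).resolve_left ha

theorem saturated_inSpan {Δ Δ' : Set ι} (h : Simple P Δ) (hsub : Δ' ⊆ Δ) {n : ℕ} (hn : 0 < n)
    {k : ι} (hk : n • P.root k ∈ Submodule.span ℤ (P.root '' inSpan P Δ')) : k ∈ inSpan P Δ' := by
  have hle : Submodule.span ℤ (P.root '' inSpan P Δ') ≤ Submodule.span ℤ (P.root '' Δ') := by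
    refine Submodule.span_le.mpr ?_
    rintro _ ⟨j, hj, rfl⟩; exact hj
  obtain ⟨c, hc, he⟩ := RootData.mem_inSpan_iff.mp (hle hk)
  refine (h.mem_inSpan_iff hsub).mpr fun a ha => by_contra fun hna => ?_
  have := li_comb_eq_zero h.li (c := (n : ℤ) • h.co k - c)
    (fun b hb => by simp [h.co_supp hb, hc b fun hh => hb (hsub hh)])
    (by rw [comb_sub, comb_smul, h.co_spec, he, natCast_zsmul, sub_self])
  have := congrFun this a
  simp [hc a hna] at this
  omega

theorem zero_set_eq_inSpan {R' S : Set ι} (f : Submodule.span ℤ (range P.root) →ₗ[ℤ] ℤ)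
    (hf : ∀ k, ev P f k = 0 ↔ ∃ n : ℕ, 0 < n ∧ n • P.root k ∈ Submodule.span ℤ (P.root '' R'))
    (hsat : ∀ k, (∃ n : ℕ, 0 < n ∧ n • P.root k ∈ Submodule.span ℤ (P.root '' R')) → k ∈ R')
    (hS : IsPosSys P S) (hpos : ∀ k ∈ S, 0 ≤ ev P f k) :
    R' = inSpan P (indec P S ∩ R') := by
  have h := indec_simple hS
  ext k
  constructor
  · intro hk
    have h0 : ev P f k = 0 := (hf k).mpr
      ⟨1, one_pos, by rw [one_smul]; exact Submodule.subset_span ⟨k, hk, rfl⟩⟩
    refine (h.mem_inSpan_iff inter_subset_left).mpr fun a ha => ?_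
    refine ⟨by_contra fun hh => ha (h.co_supp hh), hsat a ((hf a).mp ?_)⟩
    exact h.zero_supp f (by rwa [posOf_indec hS]) h0 ha
  · intro hk
    exact hsat k ⟨1, one_pos, by
      rw [one_smul]; exact Submodule.span_mono (image_mono inter_subset_right) hk⟩

/-- The functional refined by a positive system, as a positive system. -/
theorem ev_neg (f : Submodule.span ℤ (range P.root) →ₗ[ℤ] ℤ) (i : ι) :
    ev P f (P.reflectionPerm i i) = -ev P f i := by
  show f _ = -f _
  rw [← map_neg]
  congr 1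
  exact Subtype.ext (root_neg P i)

theorem ev_add (f : Submodule.span ℤ (range P.root) →ₗ[ℤ] ℤ) {i j k : ι}
    (h : P.root k = P.root i + P.root j) : ev P f k = ev P f i + ev P f j := by
  show f _ = f _ + f _
  rw [← map_add]
  congr 1
  exact Subtype.ext h

theorem ev_zsmul (f : Submodule.span ℤ (range P.root) →ₗ[ℤ] ℤ) {j k : ι} {m : ℤ}
    (h : P.root k = m • P.root j) : ev P f k = m * ev P f j := by
  show f _ = m * f _
  rw [← smul_eq_mul, ← map_smul]
  congr 1
  exact Subtype.ext h

end Groth.Agent.RootData
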