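import Groth.Agent.RootData.Closed
import Mathlib.LinearAlgebra.RootSystem.Base

/-!
# Systems of simple roots and positive systems
-/

set_option linter.unusedSectionVars false

namespace Groth.Agent.RootData

open Set Function Module RootD

variable {ι R M N : Type*} [CommRing R] [IsDomain R] [CharZero R]
  [AddCommGroup M] [Module R M] [AddCommGroup N] [Module R N]

/-- A system of simple roots, with independence over the integers. -/
structure Simple (P : RootPairing ι R M N) (Δ : Set ι) : Prop where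
  li : LinearIndepOn ℤ P.root Δ
  mem : ∀ i, P.root i ∈ natSpan P Δ ∨ -P.root i ∈ natSpan P Δ

theorem Simple.of_isSimpleSys {P : RootPairing ι R M N} {Δ : Set ι} (h : IsSimpleSys P Δ) :
    Simple P Δ :=
  ⟨h.linInd.restrict_scalars' ℤ, h.mem_or_neg_mem⟩

theorem Simple.of_base {P : RootPairing ι R M N} (b : P.Base) : Simple P ↑b.support :=
  ⟨b.linearIndepOn_root.restrict_scalars' ℤ, b.root_mem_or_neg_mem⟩

theorem Simple.isSimpleSys {M N : Type*} [AddCommGroup M] [AddCommGroup N]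
    {P : RootPairing ι ℤ M N} {Δ : Set ι} (h : Simple P Δ) : IsSimpleSys P Δ :=
  ⟨h.li, h.mem⟩

variable {P : RootPairing ι R M N} [Fintype ι] [P.IsCrystallographic]

/-- The combination with coefficient vector `c`. -/
abbrev comb (P : RootPairing ι R M N) (c : ι → ℤ) : M := ∑ a, c a • P.root a

theorem comb_add (c d : ι → ℤ) : comb P (c + d) = comb P c + comb P d := by
  simp [comb, add_smul, Finset.sum_add_distrib]

theorem comb_sub (c d : ι → ℤ) : comb P (c - d) = comb P c - comb P d := by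
  simp [comb, sub_smul, Finset.sum_sub_distrib]

theorem comb_smul (m : ℤ) (c : ι → ℤ) : comb P (m • c) = m • comb P c := by
  simp [comb, mul_smul, Finset.smul_sum]

theorem comb_neg (c : ι → ℤ) : comb P (-c) = -comb P c := by simp [comb]

theorem comb_single [DecidableEq ι] (a : ι) (m : ℤ) : comb P (Pi.single a m) = m • P.root a := by
  simp [comb, Pi.single_apply]

theorem comb_sum {κ : Type*} (s : Finset κ) (c : κ → ι → ℤ) :
    comb P (∑ x ∈ s, c x) = ∑ x ∈ s, comb P (c x) := by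
  classical
  induction s using Finset.induction with
  | empty => simp [comb]
  | insert x s hx ih => rw [Finset.sum_insert hx, Finset.sum_insert hx, comb_add, ih]

theorem comb_natSpan {S : Set ι} {x : M} :
    x ∈ natSpan P S ↔ ∃ c : ι → ℤ, (∀ a, 0 ≤ c a) ∧ (∀ a, a ∉ S → c a = 0) ∧ comb P c = x := by
  rw [natSpan_iff_coef]
  constructor
  · rintro ⟨c, hc, rfl⟩
    exact ⟨fun a => c a, fun a => Int.natCast_nonneg _, fun a ha => by simp [hc a ha], by simp [comb]⟩
  · rintro ⟨c, hpos, hc, rfl⟩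
    refine ⟨fun a => (c a).toNat, fun a ha => by simp [hc a ha], Finset.sum_congr rfl fun a _ => ?_⟩
    rw [← natCast_zsmul, Int.toNat_of_nonneg (hpos a)]

theorem li_comb_eq_zero {Δ : Set ι} (h : LinearIndepOn ℤ P.root Δ) {c : ι → ℤ}
    (hc : ∀ a, a ∉ Δ → c a = 0) (h0 : comb P c = 0) : c = 0 := by
  classical
  funext a
  by_cases ha : a ∈ Δ
  · refine linearIndepOn_iff'.mp h (Finset.univ.filter (· ∈ Δ)) c (by simp) ?_ a (by simp [ha])
    rw [← h0]
    refine Finset.sum_subset (Finset.subset_univ _) fun b _ hb => ?_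
    simp at hb; simp [hc b hb]
  · exact hc a ha

variable {Δ : Set ι} (hΔ : Simple P Δ)

include hΔ in
theorem Simple.exists_co (k : ι) :
    ∃ c : ι → ℤ, ((∀ a, 0 ≤ c a) ∨ ∀ a, c a ≤ 0) ∧ (∀ a, a ∉ Δ → c a = 0) ∧
      comb P c = P.root k := by
  rcases hΔ.mem k with h | h
  · obtain ⟨c, h1, h2, h3⟩ := comb_natSpan.mp h
    exact ⟨c, .inl h1, h2, h3⟩
  · obtain ⟨c, h1, h2, h3⟩ := comb_natSpan.mp h
    refine ⟨-c, .inr fun a => by simpa using h1 a, fun a ha => by simp [h2 a ha], ?_⟩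
    rw [comb_neg, h3, neg_neg]

/-- The coefficients of a root on a system of simple roots. -/
noncomputable def Simple.co (k : ι) : ι → ℤ := (hΔ.exists_co k).choose

theorem Simple.co_sign (k : ι) : (∀ a, 0 ≤ hΔ.co k a) ∨ ∀ a, hΔ.co k a ≤ 0 :=
  (hΔ.exists_co k).choose_spec.1

theorem Simple.co_supp {k a : ι} (ha : a ∉ Δ) : hΔ.co k a = 0 :=
  (hΔ.exists_co k).choose_spec.2.1 a ha

theorem Simple.co_spec (k : ι) : comb P (hΔ.co k) = P.root k :=
  (hΔ.exists_co k).choose_spec.2.2

theorem Simple.co_unique {k : ι} {c : ι → ℤ} (hc : ∀ a, a ∉ Δ → c a = 0)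
    (h : comb P c = P.root k) : hΔ.co k = c := by
  refine sub_eq_zero.mp (li_comb_eq_zero hΔ.li (fun a ha => ?_) ?_)
  · simp [hΔ.co_supp ha, hc a ha]
  · rw [comb_sub, hΔ.co_spec, h, sub_self]

theorem Simple.co_simple [DecidableEq ι] {i : ι} (hi : i ∈ Δ) : hΔ.co i = Pi.single i 1 :=
  hΔ.co_unique (fun _ ha => Pi.single_eq_of_ne (fun e => ha (by rw [e]; exact hi)) _)
    (by rw [comb_single, one_smul])

theorem Simple.co_zsmul {j k : ι} {m : ℤ} (h : P.root k = m • P.root j) :
    hΔ.co k = m • hΔ.co j :=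
  hΔ.co_unique (fun a ha => by simp [hΔ.co_supp ha]) (by rw [comb_smul, hΔ.co_spec, h])

theorem Simple.co_neg (k : ι) : hΔ.co (P.reflectionPerm k k) = -hΔ.co k :=
  hΔ.co_unique (fun a ha => by simp [hΔ.co_supp ha]) (by rw [comb_neg, hΔ.co_spec, root_neg])

theorem Simple.co_add {i j k : ι} (h : P.root k = P.root i + P.root j) :
    hΔ.co k = hΔ.co i + hΔ.co j :=
  hΔ.co_unique (fun a ha => by simp [hΔ.co_supp ha]) (by rw [comb_add, hΔ.co_spec, hΔ.co_spec, h])

theorem Simple.co_sub {i j k : ι} (h : P.root k = P.root i - P.root j) :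
    hΔ.co k = hΔ.co i - hΔ.co j :=
  hΔ.co_unique (fun a ha => by simp [hΔ.co_supp ha]) (by rw [comb_sub, hΔ.co_spec, hΔ.co_spec, h])

theorem Simple.co_ne_zero (k : ι) : ∃ a, hΔ.co k a ≠ 0 := by
  by_contra h; push Not at h
  exact P.ne_zero k (by rw [← hΔ.co_spec k]; simp [comb, h])

theorem Simple.mem_posOf_iff {k : ι} : k ∈ posOf P Δ ↔ ∀ a, 0 ≤ hΔ.co k a := by
  constructor
  · intro h
    obtain ⟨c, h1, h2, h3⟩ := comb_natSpan.mp h
    intro a; rw [hΔ.co_unique h2 h3]; exact h1 a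
  · intro h
    exact comb_natSpan.mpr ⟨_, h, fun a ha => hΔ.co_supp ha, hΔ.co_spec k⟩

theorem Simple.mem_posOf_iff' {k : ι} : k ∈ posOf P Δ ↔ ∃ a, 0 < hΔ.co k a := by
  rw [hΔ.mem_posOf_iff]
  constructor
  · intro h
    obtain ⟨a, ha⟩ := hΔ.co_ne_zero k
    exact ⟨a, (h a).lt_of_ne' ha⟩
  · rintro ⟨a, ha⟩
    exact (hΔ.co_sign k).resolve_right fun h => absurd (h a) (not_le.mpr ha)

theorem Simple.notMem_posOf_iff {k : ι} : k ∉ posOf P Δ ↔ ∀ a, hΔ.co k a ≤ 0 := by
  rw [hΔ.mem_posOf_iff']; simp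

include hΔ in
theorem Simple.subset_posOf : Δ ⊆ posOf P Δ := fun _ hi => root_mem_natSpan hi

include hΔ in
theorem Simple.neg_mem_posOf_iff {k : ι} : P.reflectionPerm k k ∈ posOf P Δ ↔ k ∉ posOf P Δ := by
  rw [hΔ.mem_posOf_iff, hΔ.notMem_posOf_iff, hΔ.co_neg]; simp

include hΔ in
theorem Simple.posOf_isPosSys : IsPosSys P (posOf P Δ) := by
  refine isPosSys_of_closed (fun i hi h => hΔ.neg_mem_posOf_iff.mp h hi)
    (fun i => or_iff_not_imp_left.mpr hΔ.neg_mem_posOf_iff.mpr) fun i j k hi hj hk => ?_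
  show P.root k ∈ natSpan P Δ
  rw [hk]; exact add_mem hi hj

/-- The height with respect to a system of simple roots. -/
noncomputable def Simple.ht (k : ι) : ℤ := ∑ a, hΔ.co k a

theorem Simple.ht_pos {k : ι} (hk : k ∈ posOf P Δ) : 0 < hΔ.ht k := by
  obtain ⟨a, ha⟩ := hΔ.mem_posOf_iff'.mp hk
  exact Finset.sum_pos' (fun b _ => hΔ.mem_posOf_iff.mp hk b) ⟨a, Finset.mem_univ _, ha⟩

theorem Simple.ht_simple {k : ι} (hk : k ∈ Δ) : hΔ.ht k = 1 := by
  classical
  simp [Simple.ht, hΔ.co_simple hk]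

include hΔ in
theorem Simple.not_sum {i j k : ι} (hi : i ∈ posOf P Δ) (hj : j ∈ posOf P Δ)
    (h : P.root k = P.root i + P.root j) : k ∉ Δ := by
  intro hk
  have := hΔ.ht_simple hk
  rw [Simple.ht, hΔ.co_add h] at this
  simp only [Pi.add_apply, Finset.sum_add_distrib] at this
  have := hΔ.ht_pos hi; have := hΔ.ht_pos hj
  simp only [Simple.ht] at *; omega

include hΔ in
theorem Simple.obtuse {i j : ι} (hi : i ∈ Δ) (hj : j ∈ Δ) (hij : i ≠ j) : nn P i j ≤ 0 := by
  classical
  by_contra h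
  obtain ⟨k, hk⟩ := exists_sub P (not_le.mp h) hij
  have e := hΔ.co_sub hk
  rw [hΔ.co_simple hi, hΔ.co_simple hj] at e
  rcases hΔ.co_sign k with hs | hs
  · have := hs j; simp [e, hij.symm] at this
  · have := hs i; simp [e, hij] at this

include hΔ in
theorem Simple.smul_eq {i j : ι} (hi : i ∈ Δ) {m : ℤ} (h : P.root i = m • P.root j) :
    m = 1 ∨ m = -1 := by
  classical
  have := congrFun (hΔ.co_zsmul h) i
  rw [hΔ.co_simple hi] at this
  simp at this
  exact Int.eq_one_or_neg_one_of_mul_eq_one this.symm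

include hΔ in
theorem Simple.isIndiv {i : ι} (hi : i ∈ Δ) : IsIndiv P i := by
  intro j hj
  rw [two_smul_root] at hj
  rcases hΔ.smul_eq hi hj.symm with h | h <;> norm_num at h

theorem Simple.nn_eq (k x : ι) : nn P k x = ∑ a, hΔ.co k a * nn P a x :=
  nn_eq_of_root_comb P (hΔ.co_spec k).symm x

include hΔ in
theorem Simple.exists_simple_pos {k : ι} (hk : k ∈ posOf P Δ) :
    ∃ a ∈ Δ, 0 < hΔ.co k a ∧ 0 < nn P k a := by
  by_contra h
  push Not at h
  have h2 := hΔ.nn_eq k k
  rw [nn_self] at h2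
  have : ∑ a, hΔ.co k a * nn P a k ≤ 0 := by
    refine Finset.sum_nonpos fun a _ => ?_
    rcases (hΔ.mem_posOf_iff.mp hk a).eq_or_lt with e | e
    · rw [← e, zero_mul]
    · have haΔ : a ∈ Δ := by by_contra hh; rw [hΔ.co_supp hh] at e; exact lt_irrefl _ e
      exact mul_nonpos_of_nonneg_of_nonpos e.le ((nn_nonpos_comm P).mp (h a haΔ e))
  omega

include hΔ in
theorem Simple.exists_split {k : ι} (hk : k ∈ posOf P Δ) (hkΔ : k ∉ Δ) :
    ∃ a ∈ Δ, ∃ j ∈ posOf P Δ, P.root k = P.root j + P.root a := by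
  classical
  obtain ⟨a, ha, hca, hna⟩ := hΔ.exists_simple_pos hk
  have hne : k ≠ a := fun e => hkΔ (e ▸ ha)
  obtain ⟨j, hj⟩ := exists_sub P hna hne
  refine ⟨a, ha, j, ?_, by rw [hj]; abel⟩
  by_contra hjn
  rw [hΔ.notMem_posOf_iff, hΔ.co_sub hj, hΔ.co_simple ha] at hjn
  refine hne (P.root.injective ?_)
  rw [← hΔ.co_spec k, ← one_smul ℤ (P.root a), ← comb_single (P := P)]
  congr 1
  funext b
  by_cases hb : b = a
  · subst hb; have := hjn b; simp at this; simp; omega
  · have := hjn b; simp [hb] at this ⊢; exact le_antisymm this (hΔ.mem_posOf_iff.mp hk b)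

theorem Simple.co_refl [DecidableEq ι] {a : ι} (ha : a ∈ Δ) (k : ι) :
    hΔ.co (P.reflectionPerm a k) = hΔ.co k - Pi.single a (nn P k a) := by
  refine hΔ.co_unique (fun b hb => ?_) ?_
  · have : b ≠ a := fun e => hb (by rw [e]; exact ha)
    simp [hΔ.co_supp hb, this]
  · rw [comb_sub, hΔ.co_spec, comb_single, refl_root]

theorem Simple.root_eq_of_co {a k : ι} (h : ∀ b, b ≠ a → hΔ.co k b = 0) :
    P.root k = hΔ.co k a • P.root a := by
  classical
  rw [← comb_single (P := P)]
  nth_rw 1 [← hΔ.co_spec k]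
  congr 1; funext b
  by_cases hb : b = a
  · subst hb; simp
  · simp [hb, h b hb]

include hΔ in
/-- A simple reflection permutes the positive roots that are not multiples of its root. -/
theorem Simple.refl_pos {a k : ι} (ha : a ∈ Δ) (hk : k ∈ posOf P Δ)
    (hne : ∃ b, b ≠ a ∧ hΔ.co k b ≠ 0) : P.reflectionPerm a k ∈ posOf P Δ := by
  classical
  obtain ⟨b, hba, hb⟩ := hne
  refine hΔ.mem_posOf_iff'.mpr ⟨b, ?_⟩
  rw [hΔ.co_refl ha]
  simpa [hba] using (hΔ.mem_posOf_iff.mp hk b).lt_of_ne' hb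

include hΔ in
theorem Simple.pos_multiple {a k : ι} (ha : a ∈ Δ) (hk : k ∈ posOf P Δ)
    (h : ∀ b, b ≠ a → hΔ.co k b = 0) : k = a ∨ P.root k = (2 : ℤ) • P.root a := by
  have e := hΔ.root_eq_of_co h
  obtain ⟨c, hc⟩ : ∃ c, hΔ.co k a = c := ⟨_, rfl⟩
  rw [hc] at e
  have hcpos : 0 < c := by
    obtain ⟨b, hb⟩ := hΔ.mem_posOf_iff'.mp hk
    by_cases hba : b = a
    · rwa [hba, hc] at hb
    · rw [h b hba] at hb; omega
  rcases proportional_cases P (i := a) (j := k) (m := c) (n := 1) one_ne_zero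
    (by rw [one_smul, e]) with h' | h' | h' | h' | h' | h'
  · exact .inl (P.root.injective h')
  · have hc' : c = -1 := by
      by_contra hne
      have : (c + 1) • P.root a = (c + 1) • (0 : M) := by
        rw [smul_zero, add_smul, one_smul, ← e, h', neg_add_cancel]
      exact P.ne_zero a (zsmul_cancelM P (by omega) this)
    omega
  · exact .inr h'
  · have hc' : c = -2 := by
      by_contra hne
      have : (c + 2) • P.root a = (c + 2) • (0 : M) := by
        rw [smul_zero, add_smul, ← e, h', ← add_smul]; norm_num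
      exact P.ne_zero a (zsmul_cancelM P (by omega) this)
    omega
  · rcases hΔ.smul_eq ha h' with hh | hh <;> norm_num at hh
  · rcases hΔ.smul_eq ha h' with hh | hh <;> norm_num at hh

include hΔ in
theorem Simple.eq_of_pos_multiple {a k : ι} (ha : a ∈ Δ) (hk : k ∈ posOf P Δ) (hki : IsIndiv P k)
    (h : ∀ b, b ≠ a → hΔ.co k b = 0) : k = a :=
  (hΔ.pos_multiple ha hk h).resolve_right fun e => hki a (by rw [two_smul_root, e])

include hΔ in
theorem Simple.descend {k : ι} (hk : k ∈ posOf P Δ)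
    (hne : ∀ a ∈ Δ, ∃ b, b ≠ a ∧ hΔ.co k b ≠ 0) :
    ∃ a ∈ Δ, 0 < hΔ.co k a ∧ P.reflectionPerm a k ∈ posOf P Δ ∧
      hΔ.ht (P.reflectionPerm a k) < hΔ.ht k := by
  classical
  obtain ⟨a, ha, hca, hna⟩ := hΔ.exists_simple_pos hk
  refine ⟨a, ha, hca, hΔ.refl_pos ha hk (hne a ha), ?_⟩
  simp only [Simple.ht, hΔ.co_refl ha, Pi.sub_apply, Finset.sum_sub_distrib]
  simp; exact hna

/-! ### From a positive system to its simple roots -/

/-- The indecomposable elements of a set of roots. -/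
def indec (P : RootPairing ι R M N) (S : Set ι) : Set ι :=
  {i ∈ S | ¬ ∃ j ∈ S, ∃ k ∈ S, P.root i = P.root j + P.root k}

include hΔ in
theorem Simple.eq_indec : Δ = indec P (posOf P Δ) := by
  ext k
  constructor
  · intro hk
    exact ⟨hΔ.subset_posOf hk, fun ⟨i, hi, j, hj, h⟩ => hΔ.not_sum hi hj h hk⟩
  · rintro ⟨hk, hnd⟩
    by_contra hkn
    obtain ⟨a, ha, j, hj, h⟩ := hΔ.exists_split hk hkn
    exact hnd ⟨j, hj, a, hΔ.subset_posOf ha, h⟩

theorem indec_generates {S : Set ι} (hS : IsPosSys P S) {k : ι} (hk : k ∈ S) :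
    P.root k ∈ natSpan P (indec P S) := by
  classical
  let μ : ι → ℕ := fun i =>
    (Finset.univ.filter fun j => j ∈ S ∧ P.root i - P.root j ∈ natSpan P S).card
  induction hn : μ k using Nat.strong_induction_on generalizing k with
  | _ n ih =>
    by_cases hki : k ∈ indec P S
    · exact root_mem_natSpan hki
    obtain ⟨j, hj, l, hl, h⟩ : ∃ j ∈ S, ∃ l ∈ S, P.root k = P.root j + P.root l := by
      by_contra hh; exact hki ⟨hk, hh⟩
    have lt : ∀ a b, a ∈ S → b ∈ S → P.root k = P.root a + P.root b → μ a < μ k := by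
      intro a b ha hb hab
      refine Finset.card_lt_card (Finset.ssubset_iff_of_subset ?_ |>.mpr ⟨k, ?_, ?_⟩)
      · intro x hx
        simp only [Finset.mem_filter, Finset.mem_univ, true_and] at hx ⊢
        exact ⟨hx.1, by rw [hab, add_sub_right_comm]; exact add_mem hx.2 (root_mem_natSpan hb)⟩
      · simp [hk, zero_mem]
      · simp only [Finset.mem_filter, Finset.mem_univ, true_and, not_and]
        intro _ hmem
        rw [hab, sub_add_cancel_left] at hmem
        exact P.ne_zero b (pointed_add (isPosSys_closed hS) hS.disjoint (root_mem_natSpan hb) hmem)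
    rw [h]
    exact add_mem (ih _ (hn ▸ lt j l hj hl h) hj rfl)
      (ih _ (hn ▸ lt l j hl hj (by rw [h, add_comm])) hl rfl)

theorem indec_simple {S : Set ι} (hS : IsPosSys P S) : Simple P (indec P S) := by
  classical
  have hcl := isPosSys_closed hS
  refine ⟨?_, fun i => (hS.cover i).imp (indec_generates hS) fun h => by
    rw [← root_neg]; exact indec_generates hS h⟩
  have obt : ∀ i ∈ indec P S, ∀ j ∈ indec P S, i ≠ j → nn P i j ≤ 0 := by
    intro i hi j hj hij
    by_contra h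
    obtain ⟨k, hk⟩ := exists_sub P (not_le.mp h) hij
    rcases hS.cover k with hkS | hkS
    · exact hi.2 ⟨k, hkS, j, hj.1, by rw [hk]; abel⟩
    · exact hj.2 ⟨i, hi.1, _, hkS, by rw [root_neg, hk]; abel⟩
  rw [linearIndepOn_iff']
  intro s g hs hg a ha
  let g' : ι → ℤ := fun b => if b ∈ s then g b else 0
  have hsupp : ∀ b, g' b ≠ 0 → b ∈ indec P S := by
    intro b hb
    by_cases hbs : b ∈ s
    · exact hs hbs
    · simp [g', hbs] at hb
  let c : ι → ℤ := fun b => max (g' b) 0
  let d : ι → ℤ := fun b => max (-g' b) 0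
  have hcd : comb P c = comb P d := by
    rw [← sub_eq_zero, ← comb_sub]
    have : c - d = g' := by funext b; simp only [Pi.sub_apply, c, d]; omega
    rw [this]
    rw [← hg]; simp [comb, g', ite_smul, Finset.sum_ite_mem]
  have h0 := comb_obtuse P c d (fun b => le_max_right _ _) (fun b => le_max_right _ _)
    (fun x y hx hy => obt x (hsupp x (by simp only [c] at hx; omega)) y
      (hsupp y (by simp only [d] at hy; omega)) (by rintro rfl; simp only [c, d] at hx hy; omega))
    hcd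
  have hz : ∀ e : ι → ℤ, (∀ b, 0 ≤ e b) → (∀ b, e b ≠ 0 → g' b ≠ 0) → comb P e = 0 → e = 0 := by
    intro e he hs' he0
    have := pointed_coef hcl (fun i hi => hS.disjoint hi) (c := fun b => (e b).toNat)
      (fun b hb => by
        have : e b = 0 := by by_contra hh; exact hb (hsupp b (hs' b hh)).1
        simp [this])
      (by
        rw [← he0]
        refine Finset.sum_congr rfl fun b _ => ?_
        rw [← natCast_zsmul, Int.toNat_of_nonneg (he b)])
    funext b; have := congrFun this b; have := he b; simp at *; omega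
  have hc0 := congrFun (hz c (fun b => le_max_right _ _) (fun b hb => by simp only [c] at hb; omega) h0) a
  have hd0 := congrFun (hz d (fun b => le_max_right _ _) (fun b hb => by simp only [d] at hb; omega)
    (hcd ▸ h0)) a
  simp only [c, d, g', ha, if_true, Pi.zero_apply] at hc0 hd0
  omega

theorem posOf_indec {S : Set ι} (hS : IsPosSys P S) : posOf P (indec P S) = S :=
  posSys_eq_of_subset (indec_simple hS).posOf_isPosSys hS fun _ hk =>
    (posSys_mem_iff hS).mp (natSpan_mono (fun _ h => h.1) hk)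

include hΔ in
theorem Simple.eq_indec_of_subset {S : Set ι} (hS : IsPosSys P S) (h : Δ ⊆ S) :
    S = posOf P Δ ∧ Δ = indec P S := by
  have e : posOf P Δ = S := posSys_eq_of_subset hΔ.posOf_isPosSys hS fun _ hk =>
    (posSys_mem_iff hS).mp (natSpan_mono h hk)
  exact ⟨e.symm, e ▸ hΔ.eq_indec⟩

end Groth.Agent.RootData
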