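import Groth.Agent.RootData.Simple
import Mathlib.LinearAlgebra.RootSystem.WeylGroup
import Mathlib.Data.Fintype.Perm

/-!
# The Weyl group: generation, deletion, simple transitivity
-/

set_option linter.unusedSectionVars false

namespace Groth.Agent.RootData

noncomputable section

open Set Function Module RootD RootPairing

variable {ι R M N : Type*} [CommRing R] [IsDomain R] [CharZero R]
  [AddCommGroup M] [Module R M] [AddCommGroup N] [Module R N]
  {P : RootPairing ι R M N}

theorem refl_smul_idx (i j : ι) : RootPairing.Equiv.reflection P i • j = P.reflectionPerm i j := rfl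

theorem smul_root (g : P.Aut) (i : ι) : P.root (g • i) = g • P.root i :=
  RootPairing.Equiv.root_indexEquiv_eq_smul P i g

theorem coroot'_smul (g : P.Aut) (i : ι) (x : M) :
    P.coroot' (g • i) (g • x) = P.coroot' i x := by
  have h1 := Hom.coroot_coweightMap_apply _ _ (g • i) g.toHom
  have h2 : P.coroot' (g • i) (g • x) = P.toLinearMap x (g.coweightMap (P.coroot (g • i))) :=
    LinearMap.congr_fun (Hom.weight_coweight_transpose_apply P P (P.coroot (g • i)) g.toHom) x
  rw [h2]
  show P.toLinearMap x _ = P.toLinearMap x _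
  congr 1
  rw [h1]
  congr 1
  exact _root_.Equiv.symm_apply_apply _ _

theorem aut_ext {g h : P.Aut} (e : ∀ m : M, g • m = h • m) : g = h :=
  RootPairing.Equiv.weightHom_injective P (LinearEquiv.ext e)

theorem conj_refl (u : P.Aut) (i : ι) :
    u * RootPairing.Equiv.reflection P i * u⁻¹ = RootPairing.Equiv.reflection P (u • i) := by
  refine aut_ext fun y => ?_
  obtain ⟨x, rfl⟩ : ∃ x, y = u • x := ⟨u⁻¹ • y, (smul_inv_smul u y).symm⟩
  rw [mul_smul, inv_smul_smul, mul_smul, RootPairing.Equiv.reflection_smul,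
    RootPairing.Equiv.reflection_smul, P.reflection_apply, P.reflection_apply, smul_sub,
    smul_comm u (P.coroot' i x), coroot'_smul, smul_root]

theorem refl_mul_self (i : ι) :
    RootPairing.Equiv.reflection P i * RootPairing.Equiv.reflection P i = 1 := by
  refine aut_ext fun m => ?_
  rw [mul_smul, one_smul, RootPairing.Equiv.reflection_smul, RootPairing.Equiv.reflection_smul,
    P.reflection_same]

theorem smul_neg_idx (g : P.Aut) (i : ι) :
    g • P.reflectionPerm i i = P.reflectionPerm (g • i) (g • i) := by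
  apply P.root.injective; rw [smul_root, root_neg, root_neg, smul_root, smul_neg]

theorem smul_isClosed {S : Set ι} (g : P.Aut) (h : IsClosedSub P S) :
    IsClosedSub P ((g • ·) '' S) := by
  rintro _ _ k ⟨i, hi, rfl⟩ ⟨j, hj, rfl⟩ hk
  refine ⟨g⁻¹ • k, h hi hj ?_, smul_inv_smul g k⟩
  rw [smul_root, hk, smul_root, smul_root, smul_add, inv_smul_smul, inv_smul_smul]

theorem smul_two_root (g : P.Aut) {i j : ι} (h : P.root j = (2 : ℤ) • P.root i) :
    P.root (g • j) = (2 : ℤ) • P.root (g • i) := by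
  rw [smul_root, smul_root, h, two_smul, two_smul, smul_add]

theorem smul_isIndiv (g : P.Aut) {i : ι} (h : IsIndiv P i) : IsIndiv P (g • i) := by
  intro j hj
  rw [two_smul_root] at hj
  refine h (g⁻¹ • j) ?_
  rw [two_smul_root, ← smul_two_root g⁻¹ hj.symm, inv_smul_smul]

variable [P.IsCrystallographic] [Finite ι]

theorem refl_eq_of_zsmul {i j : ι} {c : ℤ} (h : P.root j = c • P.root i) :
    RootPairing.Equiv.reflection P i = RootPairing.Equiv.reflection P j := by
  have := torsionFreeN P
  have hR : P.root j = (c : R) • P.root i := by rw [h, Int.cast_smul_eq_zsmul]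
  have hc := smul_coroot_eq_of_root_eq_smul i j (c : R) hR
  refine aut_ext fun x => ?_
  rw [RootPairing.Equiv.reflection_smul, RootPairing.Equiv.reflection_smul, P.reflection_apply,
    P.reflection_apply, hR, smul_smul]
  congr 2
  show P.toLinearMap x (P.coroot i) = P.toLinearMap x (P.coroot j) * (c : R)
  rw [← hc, map_smul, smul_eq_mul, mul_comm]

theorem nn_smul (g : P.Aut) (i j : ι) : nn P (g • i) (g • j) = nn P i j := by
  apply Int.cast_injective (α := R); rw [nn_cast, nn_cast]
  have := coroot'_smul g j (P.root i)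
  rw [← smul_root] at this
  simpa using this

theorem bz_smul [Fintype ι] (g : P.Aut) (i j : ι) : bz P (g • i) (g • j) = bz P i j := by
  refine (_root_.Equiv.sum_comp (MulAction.toPerm g) fun k => nn P (g • i) k * nn P (g • j) k).symm.trans ?_
  simp [bz, nn_smul]

theorem smul_isPosSys {S : Set ι} (g : P.Aut) (h : IsPosSys P S) :
    IsPosSys P ((g • ·) '' S) := by
  refine isPosSys_of_closed ?_ (fun i => ?_) (smul_isClosed g (isPosSys_closed h))
  · rintro _ ⟨i, hi, rfl⟩ ⟨j, hj, he⟩
    simp only [← smul_neg_idx, smul_left_cancel_iff] at he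
    exact h.disjoint hi (he ▸ hj)
  · rcases h.cover (g⁻¹ • i) with hh | hh
    · exact .inl ⟨_, hh, smul_inv_smul g i⟩
    · exact .inr ⟨_, hh, by simp [smul_neg_idx]⟩

theorem sub_mem_rootSpan {g : P.Aut} (hg : g ∈ P.weylGroup) :
    ∀ m : M, g • m - m ∈ P.rootSpan R := by
  induction hg using RootPairing.weylGroup.induction with
  | mem i =>
    intro m
    rw [RootPairing.Equiv.reflection_smul, P.reflection_apply, sub_sub_cancel_left]
    exact neg_mem (Submodule.smul_mem _ _ (Submodule.subset_span (mem_range_self i)))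
  | one => intro m; simp
  | mul x y _ _ hx hy =>
    intro m
    rw [mul_smul, ← sub_add_sub_cancel (x • y • m) (y • m) m]
    exact add_mem (hx _) (hy _)

theorem eq_zero_of_rootSpan {x : M} (hx : x ∈ P.rootSpan R) (h : ∀ k, P.coroot' k x = 0) :
    x = 0 := by
  have := Fintype.ofFinite ι
  refine Submodule.disjoint_def.mp P.disjoint_rootSpan_ker_rootForm x hx ?_
  rw [LinearMap.mem_ker]; ext y
  rw [P.rootForm_apply_apply]; simp [h]

/-- An automorphism fixing every root, and trivial modulo the saturated root span, is trivial. -/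
theorem eq_one_of_fix {g : P.Aut}
    (hs : ∀ m : M, ∃ n : ℤ, n ≠ 0 ∧ n • (g • m - m) ∈ P.rootSpan R)
    (hfix : ∀ i : ι, g • i = i) : g = 1 := by
  refine aut_ext fun m => ?_
  rw [one_smul]
  obtain ⟨n, hn, hmem⟩ := hs m
  have h0 := eq_zero_of_rootSpan hmem fun k => by
    have h1 : P.coroot' k (g • m) = P.coroot' k m := by
      have := coroot'_smul g k m; rwa [hfix] at this
    rw [map_zsmul, map_sub, h1, sub_self, smul_zero]
  exact sub_eq_zero.mp (zsmul_cancelM P hn (by rw [h0, smul_zero]))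

theorem weylGroup_eq_one_of_fix {g : P.Aut} (hg : g ∈ P.weylGroup)
    (hfix : ∀ i : ι, g • i = i) : g = 1 :=
  eq_one_of_fix (fun m => ⟨1, one_ne_zero, by simpa using sub_mem_rootSpan hg m⟩) hfix

theorem weylGroupToPerm_inj : Injective P.weylGroupToPerm := by
  refine (injective_iff_map_eq_one _).mpr fun g hg => Subtype.ext ?_
  exact weylGroup_eq_one_of_fix g.2 fun i => congrFun (congrArg DFunLike.coe hg) i

variable (P) in
/-- The group generated by the reflections in a set of roots. -/
def gen (Δ : Set ι) : Subgroup P.Aut :=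
  Subgroup.closure ((fun i : ι => RootPairing.Equiv.reflection P i) '' Δ)

variable (P) in
/-- The product of the reflections along a word. -/
def word (l : List ι) : P.Aut := (l.map fun a => RootPairing.Equiv.reflection P a).prod

theorem word_cons (a : ι) (l : List ι) :
    word P (a :: l) = RootPairing.Equiv.reflection P a * word P l := by simp [word]

theorem word_append (l l' : List ι) : word P (l ++ l') = word P l * word P l' := by simp [word]

theorem word_mem_gen {Δ : Set ι} {l : List ι} (hl : ∀ a ∈ l, a ∈ Δ) : word P l ∈ gen P Δ := by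
  refine list_prod_mem fun x hx => ?_
  obtain ⟨a, ha, rfl⟩ := List.mem_map.mp hx
  exact Subgroup.subset_closure ⟨a, hl a ha, rfl⟩

theorem refl_mem_gen {Δ : Set ι} {a : ι} (ha : a ∈ Δ) :
    RootPairing.Equiv.reflection P a ∈ gen P Δ := Subgroup.subset_closure ⟨a, ha, rfl⟩

theorem gen_le (Δ : Set ι) : gen P Δ ≤ P.weylGroup := by
  refine (Subgroup.closure_le _).mpr ?_
  rintro _ ⟨a, _, rfl⟩; exact P.reflection_mem_weylGroup a

theorem exists_word {Δ : Set ι} {g : P.Aut} (hg : g ∈ gen P Δ) :
    ∃ l : List ι, (∀ a ∈ l, a ∈ Δ) ∧ word P l = g := by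
  induction hg using Subgroup.closure_induction with
  | mem x hx => obtain ⟨a, ha, rfl⟩ := hx; exact ⟨[a], by simpa using ha, by simp [word]⟩
  | one => exact ⟨[], by simp, by simp [word]⟩
  | mul x y _ _ hx hy =>
    obtain ⟨l, hl, rfl⟩ := hx; obtain ⟨l', hl', rfl⟩ := hy
    exact ⟨l ++ l', by simpa [or_imp, forall_and] using ⟨hl, hl'⟩, word_append _ _⟩
  | inv x hxm hx =>
    obtain ⟨l, hl, rfl⟩ := hx
    clear hxm
    refine ⟨l.reverse, by simpa using hl, eq_inv_of_mul_eq_one_left ?_⟩
    clear hl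
    induction l with
    | nil => simp [word]
    | cons a t ih =>
      rw [List.reverse_cons, word_append, word_cons a t, mul_assoc,
        ← mul_assoc (word P [a]), show word P [a] = RootPairing.Equiv.reflection P a by simp [word],
        refl_mul_self, one_mul, ih]

variable [Fintype ι] {Δ : Set ι} (hΔ : Simple P Δ)

include hΔ in
/-- A positive root supported in `Δ'` comes from an element of `Δ'`. -/
theorem Simple.exists_gen_smul {Δ' : Set ι} {k : ι} (hk : k ∈ posOf P Δ)
    (hsupp : ∀ a, 0 < hΔ.co k a → a ∈ Δ') :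
    ∃ g ∈ gen P Δ', ∃ a ∈ Δ', a ∈ Δ ∧
      (k = g • a ∨ P.root k = (2 : ℤ) • P.root (g • a)) := by
  classical
  induction hn : (hΔ.ht k).toNat using Nat.strong_induction_on generalizing k with
  | _ n ih =>
    by_cases hne : ∀ a ∈ Δ, ∃ b, b ≠ a ∧ hΔ.co k b ≠ 0
    · obtain ⟨a, ha, hca, hpos, hlt⟩ := hΔ.descend hk hne
      have hsupp' : ∀ b, 0 < hΔ.co (P.reflectionPerm a k) b → b ∈ Δ' := by
        intro b hb
        by_cases hba : b = a
        · rw [hba]; exact hsupp a hca
        · rw [hΔ.co_refl ha] at hb; exact hsupp b (by simpa [hba] using hb)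
      obtain ⟨g, hg, c, hc, hcΔ, h⟩ := ih _ (by
        have := hΔ.ht_pos hpos; have := hΔ.ht_pos hk; omega) hpos hsupp' rfl
      refine ⟨_, mul_mem (refl_mem_gen (hsupp a hca)) hg, c, hc, hcΔ, ?_⟩
      rcases h with h | h
      · left; rw [mul_smul, ← h, refl_smul_idx, P.reflectionPerm_self]
      · right
        have := smul_two_root (RootPairing.Equiv.reflection P a) h
        rwa [refl_smul_idx, P.reflectionPerm_self, ← mul_smul] at this
    · push Not at hne
      obtain ⟨a, ha, h0⟩ := hne
      obtain ⟨b, hb⟩ := hΔ.mem_posOf_iff'.mp hk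
      have hca : 0 < hΔ.co k a := by
        by_cases hba : b = a
        · rwa [← hba]
        · rw [h0 b hba] at hb; omega
      refine ⟨1, one_mem _, a, hsupp a hca, ha, ?_⟩
      simpa using hΔ.pos_multiple ha hk h0

include hΔ in
theorem Simple.refl_mem_gen_of_supp {Δ' : Set ι} {k : ι}
    (hsupp : ∀ a, hΔ.co k a ≠ 0 → a ∈ Δ') :
    RootPairing.Equiv.reflection P k ∈ gen P Δ' := by
  by_cases hk : k ∈ posOf P Δ
  · obtain ⟨g, hg, a, ha, -, h⟩ := hΔ.exists_gen_smul hk (fun a h => hsupp a h.ne')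
    have : RootPairing.Equiv.reflection P k = RootPairing.Equiv.reflection P (g • a) := by
      rcases h with h | h
      · rw [h]
      · exact (refl_eq_of_zsmul h).symm
    rw [this, ← conj_refl]
    exact mul_mem (mul_mem hg (refl_mem_gen ha)) (inv_mem hg)
  · have hk' := hΔ.neg_mem_posOf_iff.mpr hk
    obtain ⟨g, hg, a, ha, -, h⟩ := hΔ.exists_gen_smul (Δ' := Δ') hk' fun a h => hsupp a (by
      rw [hΔ.co_neg] at h; simp at h; omega)
    have hz : RootPairing.Equiv.reflection P k = RootPairing.Equiv.reflection P (P.reflectionPerm k k) :=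
      refl_eq_of_zsmul (c := -1) (by simp)
    have : RootPairing.Equiv.reflection P k = RootPairing.Equiv.reflection P (g • a) := by
      rcases h with h | h
      · rw [hz, h]
      · rw [hz]; exact (refl_eq_of_zsmul h).symm
    rw [this, ← conj_refl]
    exact mul_mem (mul_mem hg (refl_mem_gen ha)) (inv_mem hg)

include hΔ in
theorem Simple.gen_eq_weylGroup : gen P Δ = P.weylGroup := by
  refine le_antisymm (gen_le Δ) ((Subgroup.closure_le _).mpr ?_)
  rintro _ ⟨k, rfl⟩
  exact hΔ.refl_mem_gen_of_supp fun a ha => by_contra fun h => ha (hΔ.co_supp h)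

include hΔ in
theorem Simple.indiv_conj {k : ι} (hk : IsIndiv P k) :
    ∃ g ∈ P.weylGroup, ∃ a ∈ Δ, g • a = k := by
  have key : ∀ j, j ∈ posOf P Δ → IsIndiv P j → ∃ g ∈ P.weylGroup, ∃ a ∈ Δ, g • a = j := by
    intro j hj hji
    obtain ⟨g, hg, a, ha, -, h⟩ := hΔ.exists_gen_smul (Δ' := Δ) hj fun a ha =>
      by_contra fun h => ha.ne' (hΔ.co_supp h)
    rcases h with h | h
    · exact ⟨g, gen_le Δ hg, a, ha, h.symm⟩
    · exact absurd (by rw [two_smul_root]; exact h.symm) (hji (g • a))
  by_cases hkp : k ∈ posOf P Δ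
  · exact key k hkp hk
  · have hni : IsIndiv P (P.reflectionPerm k k) := smul_isIndiv (RootPairing.Equiv.reflection P k) hk
    obtain ⟨g, hg, a, ha, h⟩ := key _ (hΔ.neg_mem_posOf_iff.mpr hkp) hni
    exact ⟨RootPairing.Equiv.reflection P k * g, mul_mem (P.reflection_mem_weylGroup k) hg, a, ha,
      by rw [mul_smul, h, refl_smul_idx, P.reflectionPerm_self]⟩

include hΔ in
theorem Simple.refl_self_notMem {a : ι} (ha : a ∈ Δ) : P.reflectionPerm a a ∉ posOf P Δ :=
  fun h => hΔ.neg_mem_posOf_iff.mp h (hΔ.subset_posOf ha)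

include hΔ in
/-- The exchange property. -/
theorem Simple.exchange {a : ι} (ha : a ∈ Δ) :
    ∀ l : List ι, (∀ c ∈ l, c ∈ Δ) → word P l • a ∉ posOf P Δ →
      ∃ l', (∀ c ∈ l', c ∈ Δ) ∧ l'.length + 1 = l.length ∧
        word P l * RootPairing.Equiv.reflection P a = word P l' := by
  intro l
  induction l with
  | nil => intro _ h; exact absurd (by simpa [word] using hΔ.subset_posOf ha) h
  | cons c t ih =>
    intro hl h
    have hc : c ∈ Δ := hl c List.mem_cons_self
    have ht : ∀ x ∈ t, x ∈ Δ := fun x hx => hl x (List.mem_cons_of_mem _ hx)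
    by_cases htp : word P t • a ∈ posOf P Δ
    · refine ⟨t, ht, rfl, ?_⟩
      have heq : word P t • a = c := by
        refine hΔ.eq_of_pos_multiple hc htp (smul_isIndiv _ (hΔ.isIndiv ha)) fun b hb => ?_
        by_contra hh
        exact h (by rw [word_cons, mul_smul]; exact hΔ.refl_pos hc htp ⟨b, hb, hh⟩)
      have := conj_refl (word P t) a
      rw [heq] at this
      rw [word_cons, ← this, inv_mul_cancel_right, mul_assoc, refl_mul_self, mul_one]
    · obtain ⟨l', h1, h2, h3⟩ := ih ht htp
      refine ⟨c :: l', ?_, by simp [h2], ?_⟩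
      · intro x hx
        rcases List.mem_cons.mp hx with rfl | hx
        · exact hc
        · exact h1 x hx
      · rw [word_cons, mul_assoc, h3, word_cons]

include hΔ in
theorem Simple.minimal_last {l : List ι} (hl : ∀ a ∈ l, a ∈ Δ) (hne : l ≠ [])
    (hmin : ∀ l' : List ι, (∀ a ∈ l', a ∈ Δ) → word P l' = word P l → l.length ≤ l'.length) :
    word P l • l.getLast hne ∉ posOf P Δ := by
  obtain ⟨t, a, rfl⟩ : ∃ t a, l = t ++ [a] :=
    ⟨l.dropLast, l.getLast hne, (List.dropLast_append_getLast hne).symm⟩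
  rw [List.getLast_append_singleton]
  intro hpos
  have ha : a ∈ Δ := hl a (by simp)
  have hw : word P (t ++ [a]) = word P t * RootPairing.Equiv.reflection P a := by simp [word]
  rw [hw, mul_smul, refl_smul_idx, smul_neg_idx, hΔ.neg_mem_posOf_iff] at hpos
  obtain ⟨l', h1, h2, h3⟩ := hΔ.exchange ha t (fun x hx => hl x (by simp [hx])) hpos
  have := hmin l' h1 (by rw [hw, h3])
  simp at this; omega

include hΔ in
theorem Simple.eq_one_of_pos {g : P.Aut} (hg : g ∈ P.weylGroup)
    (h : ∀ i ∈ Δ, g • i ∈ posOf P Δ) : g = 1 := by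
  classical
  rw [← hΔ.gen_eq_weylGroup] at hg
  have hex : ∃ n, ∃ l : List ι, (∀ a ∈ l, a ∈ Δ) ∧ word P l = g ∧ l.length = n := by
    obtain ⟨l, h1, h2⟩ := exists_word hg; exact ⟨_, l, h1, h2, rfl⟩
  obtain ⟨l, hl, hlg, hlen⟩ := Nat.find_spec hex
  by_cases hne : l = []
  · rw [← hlg, hne]; simp [word]
  · exfalso
    refine hΔ.minimal_last hl hne (fun l' h1 h2 => ?_) (hlg ▸ h _ (hl _ (List.getLast_mem hne)))
    exact hlen ▸ Nat.find_min' hex ⟨l', h1, h2.trans hlg, rfl⟩

/-- Every positive system can be moved into a closed set meeting each pair of opposite roots. -/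
theorem exists_smul_subset {S P' : Set ι} (hS : IsPosSys P S) (hcl : IsClosedSub P P')
    (hcov : ∀ i, i ∈ P' ∨ P.reflectionPerm i i ∈ P') :
    ∃ g ∈ P.weylGroup, (g • ·) '' S ⊆ P' := by
  classical
  induction hn : (Finset.univ.filter fun i => i ∈ S ∧ i ∉ P').card using Nat.strong_induction_on
    generalizing S with
  | _ n ih =>
    have hΔ := indec_simple hS
    have hpo := posOf_indec hS
    by_cases hsub : indec P S ⊆ P'
    · refine ⟨1, one_mem _, ?_⟩
      simp only [one_smul, image_id']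
      intro k hk
      exact closed_iff_natSpan.mp hcl k (natSpan_mono hsub (indec_generates hS hk))
    · obtain ⟨a, ha, haP⟩ := not_subset.mp hsub
      set s := RootPairing.Equiv.reflection P a with hs
      have hS' := smul_isPosSys s hS
      have hna : P.reflectionPerm a a ∈ P' := (hcov a).resolve_left haP
      have key : ∀ y ∈ S, P.reflectionPerm a y ∈ S ∧ P.reflectionPerm a y ≠ a ∨
          P.reflectionPerm a y ∈ P' := by
        intro y hy
        have hy' : y ∈ posOf P (indec P S) := hpo.symm ▸ hy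
        by_cases hne : ∃ b, b ≠ a ∧ hΔ.co y b ≠ 0
        · left
          refine ⟨hpo ▸ hΔ.refl_pos ha hy' hne, fun he => ?_⟩
          have : y = P.reflectionPerm a a := by rw [← P.reflectionPerm_self a y, he]
          exact hS.disjoint ha.1 (this ▸ hy)
        · right
          push Not at hne
          rcases hΔ.pos_multiple ha hy' hne with rfl | h2
          · exact hna
          · refine hcl hna hna ?_
            rw [← refl_smul_idx, ← hs, smul_two_root s h2, refl_smul_idx, two_smul]
      obtain ⟨g, hg, hgs⟩ := ih _ (by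
        rw [← hn]
        refine Finset.card_lt_card ((Finset.ssubset_iff_of_subset ?_).mpr ⟨a, ?_, ?_⟩)
        · intro x hx
          simp only [Finset.mem_filter, Finset.mem_univ, true_and] at hx ⊢
          obtain ⟨⟨y, hy, rfl⟩, hxP⟩ := hx
          rcases key y hy with h | h
          · exact ⟨h.1, hxP⟩
          · exact absurd h hxP
        · simp [ha.1, haP]
        · simp only [Finset.mem_filter, Finset.mem_univ, true_and, not_and, not_not]
          rintro ⟨y, hy, he⟩
          rcases key y hy with h | h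
          · exact absurd he h.2
          · exact he ▸ h) hS' rfl
      refine ⟨g * s, mul_mem hg (P.reflection_mem_weylGroup a), ?_⟩
      rintro _ ⟨y, hy, rfl⟩
      exact hgs ⟨s • y, ⟨y, hy, rfl⟩, (mul_smul g s y).symm⟩

theorem exists_smul_posSys {S S' : Set ι} (hS : IsPosSys P S) (hS' : IsPosSys P S') :
    ∃ g ∈ P.weylGroup, (g • ·) '' S = S' := by
  obtain ⟨g, hg, h⟩ := exists_smul_subset hS (isPosSys_closed hS') hS'.cover
  exact ⟨g, hg, posSys_eq_of_subset (smul_isPosSys g hS) hS' h⟩

theorem smul_indec (g : P.Aut) (S : Set ι) :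
    (g • ·) '' indec P S = indec P ((g • ·) '' S) := by
  ext x
  constructor
  · rintro ⟨i, ⟨hi, hnd⟩, rfl⟩
    refine ⟨⟨i, hi, rfl⟩, ?_⟩
    rintro ⟨_, ⟨j, hj, rfl⟩, _, ⟨k, hk, rfl⟩, he⟩
    refine hnd ⟨j, hj, k, hk, ?_⟩
    have := congrArg (g⁻¹ • ·) he
    simpa [smul_root] using this
  · rintro ⟨⟨i, hi, rfl⟩, hnd⟩
    refine ⟨i, ⟨hi, ?_⟩, rfl⟩
    rintro ⟨j, hj, k, hk, he⟩
    exact hnd ⟨g • j, ⟨j, hj, rfl⟩, g • k, ⟨k, hk, rfl⟩, by simp [smul_root, he]⟩

include hΔ in
theorem Simple.exists_smul_simple {Δ' : Set ι} (hΔ' : Simple P Δ') :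
    ∃ g ∈ P.weylGroup, (g • ·) '' Δ = Δ' := by
  obtain ⟨g, hg, h⟩ := exists_smul_posSys hΔ.posOf_isPosSys hΔ'.posOf_isPosSys
  refine ⟨g, hg, ?_⟩
  rw [hΔ'.eq_indec, ← h, ← smul_indec, ← hΔ.eq_indec]

include hΔ in
theorem Simple.eq_one_of_stab {g : P.Aut} (hg : g ∈ P.weylGroup)
    (h : (g • ·) '' Δ = Δ) : g = 1 :=
  hΔ.eq_one_of_pos hg fun i hi => hΔ.subset_posOf (h.subset ⟨i, hi, rfl⟩)

include hΔ in
theorem Simple.existsUnique_smul {Δ' : Set ι} (hΔ' : Simple P Δ') :
    ∃! g : P.weylGroup, ((g : P.Aut) • ·) '' Δ = Δ' := by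
  obtain ⟨g, hg, h⟩ := hΔ.exists_smul_simple hΔ'
  refine ⟨⟨g, hg⟩, h, ?_⟩
  rintro ⟨g', hg'⟩ (h' : (g' • ·) '' Δ = Δ')
  refine Subtype.ext (inv_mul_eq_one.mp (hΔ.eq_one_of_stab (mul_mem (inv_mem hg) hg') ?_)).symm
  rw [show ((g⁻¹ * g') • · : ι → ι) = (g⁻¹ • ·) ∘ (g' • ·) by funext x; exact mul_smul _ _ _,
    image_comp, h', ← h, ← image_comp]
  simp

end

end Groth.Agent.RootData
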